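import Mathlib

/-!
# Integral vectors with Gram matrix `δ + e`

`m` integral vectors of squared length `e + 1` with pairwise products `e` have at most `e + m`
coordinates in use, exactly `e + m` when `e ≤ 3`, up to the configuration of vectors supported on
`e + 2` points.
-/

set_option autoImplicit false
set_option linter.unusedSectionVars false

namespace Cfsg.Agent.Lib.FreeAbelian.Combi

universe u v

variable {J : Type u} [Fintype J] {ι : Type v} [Fintype ι] [DecidableEq ι] {e : ℕ} {c : J → ι → ℤ}

/-- The coordinates in use. -/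
def supp (c : J → ι → ℤ) (a : J) : Finset ι := Finset.univ.filter fun i => c a i ≠ 0

theorem mem_supp {a : J} {i : ι} : i ∈ supp c a ↔ c a i ≠ 0 := by simp [supp]

theorem one_le_sq {x : ℤ} (h : x ≠ 0) : 1 ≤ x * x := by
  rcases lt_or_gt_of_ne h with h | h <;> nlinarith

theorem card_supp_le (hdiag : ∀ a, ∑ i, c a i * c a i = (e : ℤ) + 1) (a : J) :
    (supp c a).card ≤ e + 1 := by
  have h1 : ((supp c a).card : ℤ) ≤ ∑ i ∈ supp c a, c a i * c a i := by
    rw [Finset.cast_card]
    exact Finset.sum_le_sum fun i hi => one_le_sq (mem_supp.mp hi)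
  have h2 := Finset.sum_le_sum_of_subset_of_nonneg (Finset.subset_univ (supp c a))
    (f := fun i => c a i * c a i) fun i _ _ => mul_self_nonneg _
  rw [hdiag a] at h2
  omega

/-- A vector has at most one coordinate outside the support of another. -/
theorem card_sdiff_supp_le (hdiag : ∀ a, ∑ i, c a i * c a i = (e : ℤ) + 1)
    (hoff : ∀ a b, a ≠ b → ∑ i, c a i * c b i = (e : ℤ)) {a b : J} (hab : a ≠ b) :
    (supp c b \ supp c a).card ≤ 1 := by
  set S := supp c a with hS
  have h0 : ∑ i ∈ S, c a i * c b i = (e : ℤ) := by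
    rw [← hoff a b hab]
    exact Finset.sum_subset (Finset.subset_univ _) fun i _ hi => by
      rw [hS, mem_supp, not_not] at hi
      rw [hi, zero_mul]
  have hA : ∑ i ∈ S, c a i ^ 2 ≤ (e : ℤ) + 1 := by
    rw [← hdiag a]
    simp only [sq]
    exact Finset.sum_le_sum_of_subset_of_nonneg (Finset.subset_univ _) fun i _ _ => mul_self_nonneg _
  have hcs := Finset.sum_mul_sq_le_sq_mul_sq S (c a) (c b)
  rw [h0] at hcs
  have hB : (e : ℤ) ≤ ∑ i ∈ S, c b i ^ 2 := by
    have hpos : 0 ≤ ∑ i ∈ S, c b i ^ 2 := Finset.sum_nonneg fun i _ => sq_nonneg _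
    have h1 : (e : ℤ) ^ 2 ≤ ((e : ℤ) + 1) * ∑ i ∈ S, c b i ^ 2 :=
      hcs.trans (mul_le_mul_of_nonneg_right hA hpos)
    by_contra hlt
    nlinarith [Int.le_sub_one_of_lt (not_le.mp hlt)]
  have hsplit : ∑ i ∈ S, c b i ^ 2 + ∑ i ∈ Finset.univ \ S, c b i ^ 2 = (e : ℤ) + 1 := by
    rw [← hdiag b, add_comm, Finset.sum_sdiff (Finset.subset_univ S)]
    simp only [sq]
  have h2 : (((supp c b \ S).card : ℕ) : ℤ) ≤ ∑ i ∈ Finset.univ \ S, c b i ^ 2 := by
    refine le_trans ?_ (Finset.sum_le_sum_of_subset_of_nonneg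
      (Finset.sdiff_subset_sdiff (Finset.subset_univ (supp c b)) le_rfl) fun i _ _ => sq_nonneg _)
    rw [Finset.cast_card]
    refine Finset.sum_le_sum fun i hi => ?_
    rw [sq]
    exact one_le_sq (mem_supp.mp (Finset.mem_sdiff.mp hi).1)
  omega

/-- At most `e + m` coordinates are used. -/
theorem card_le [Nonempty J] (hdiag : ∀ a, ∑ i, c a i * c a i = (e : ℤ) + 1)
    (hoff : ∀ a b, a ≠ b → ∑ i, c a i * c b i = (e : ℤ)) (hcov : ∀ i, ∃ a, c a i ≠ 0) :
    Fintype.card ι ≤ e + Fintype.card J := by
  classical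
  obtain ⟨a⟩ := ‹Nonempty J›
  have hu : (Finset.univ : Finset ι) =
      supp c a ∪ (Finset.univ.erase a).biUnion fun b => supp c b \ supp c a := by
    refine Finset.ext fun i => ⟨fun _ => ?_, fun _ => Finset.mem_univ _⟩
    by_cases hi : i ∈ supp c a
    · exact Finset.mem_union_left _ hi
    · obtain ⟨b, hb⟩ := hcov i
      refine Finset.mem_union_right _ (Finset.mem_biUnion.mpr
        ⟨b, Finset.mem_erase.mpr ⟨fun e => hi (e ▸ mem_supp.mpr hb), Finset.mem_univ _⟩,
          Finset.mem_sdiff.mpr ⟨mem_supp.mpr hb, hi⟩⟩)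
  have h1 := (Finset.card_biUnion_le_card_mul (Finset.univ.erase a)
    (fun b => supp c b \ supp c a) 1
    fun b hb => card_sdiff_supp_le hdiag hoff (Finset.ne_of_mem_erase hb).symm)
  rw [mul_one, Finset.card_erase_of_mem (Finset.mem_univ a), Finset.card_univ] at h1
  have h2 := card_supp_le hdiag a
  have h3 := Finset.card_union_le (supp c a)
    ((Finset.univ.erase a).biUnion fun b => supp c b \ supp c a)
  rw [← hu, Finset.card_univ] at h3
  have : 0 < Fintype.card J := Fintype.card_pos
  omega

/-- One vector. -/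
theorem card_eq_of_unique [Subsingleton J] [Nonempty J] (he : e ≤ 3)
    (hdiag : ∀ a, ∑ i, c a i * c a i = (e : ℤ) + 1) (hcov : ∀ i, ∃ a, c a i ≠ 0)
    (hk : 2 ≤ Fintype.card ι) : Fintype.card ι = e + 1 := by
  obtain ⟨a⟩ := ‹Nonempty J›
  have hne : ∀ i, c a i ≠ 0 := fun i => by
    obtain ⟨b, hb⟩ := hcov i
    rwa [Subsingleton.elim b a] at hb
  have hone : ∀ i, c a i * c a i = 1 := by
    intro i
    by_contra hi
    have h4 : 4 ≤ c a i * c a i := by
      rcases lt_or_gt_of_ne (hne i) with h | h
      · have : c a i ≠ -1 := fun e' => hi (by rw [e']; norm_num)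
        have : c a i ≤ -2 := by omega
        nlinarith
      · have : c a i ≠ 1 := fun e' => hi (by rw [e']; norm_num)
        have : 2 ≤ c a i := by omega
        nlinarith
    obtain ⟨j, hj⟩ := Fintype.exists_ne_of_one_lt_card hk i
    have h2 := Finset.add_sum_erase Finset.univ (fun i => c a i * c a i) (Finset.mem_univ i)
    have h3 : (1 : ℤ) ≤ ∑ x ∈ Finset.univ.erase i, c a x * c a x :=
      (one_le_sq (hne j)).trans (Finset.single_le_sum (f := fun x => c a x * c a x)
        (fun x _ => mul_self_nonneg _) (Finset.mem_erase.mpr ⟨hj, Finset.mem_univ _⟩))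
    rw [hdiag a] at h2
    have : (e : ℤ) ≤ 3 := by exact_mod_cast he
    omega
  have h := hdiag a
  rw [Finset.sum_congr rfl fun i _ => hone i, Finset.sum_const, Finset.card_univ, nsmul_one] at h
  exact_mod_cast h

section Small

variable (he : e ≤ 3) (hdiag : ∀ a, ∑ i, c a i * c a i = (e : ℤ) + 1)
  (hoff : ∀ a b, a ≠ b → ∑ i, c a i * c b i = (e : ℤ))

include he hdiag hoff

/-- The entries are signs. -/
theorem sq_eq_one [Nontrivial J] {a : J} {i : ι} (hi : c a i ≠ 0) : c a i * c a i = 1 := by
  by_contra hne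
  obtain ⟨b, hb⟩ := exists_ne a
  have h4 : 4 ≤ c a i * c a i := by
    rcases lt_or_gt_of_ne hi with h | h
    · have : c a i ≠ -1 := fun e' => hne (by rw [e']; norm_num)
      have : c a i ≤ -2 := by omega
      nlinarith
    · have : c a i ≠ 1 := fun e' => hne (by rw [e']; norm_num)
      have : 2 ≤ c a i := by omega
      nlinarith
  have h2 := Finset.add_sum_erase Finset.univ (fun i => c a i * c a i) (Finset.mem_univ i)
  rw [hdiag a] at h2
  have hz : ∀ j, j ≠ i → c a j = 0 := by
    intro j hj
    by_contra hj0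
    have h3 : (1 : ℤ) ≤ ∑ x ∈ Finset.univ.erase i, c a x * c a x :=
      (one_le_sq hj0).trans (Finset.single_le_sum (f := fun x => c a x * c a x)
        (fun x _ => mul_self_nonneg _) (Finset.mem_erase.mpr ⟨hj, Finset.mem_univ _⟩))
    have : (e : ℤ) ≤ 3 := by exact_mod_cast he
    omega
  have h3 := hoff a b hb.symm
  rw [Finset.sum_eq_single i (fun j _ hj => by rw [hz j hj, zero_mul])
    (fun h => absurd (Finset.mem_univ _) h)] at h3
  rw [Finset.sum_eq_zero fun j hj => by rw [hz j (Finset.ne_of_mem_erase hj), zero_mul],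
    add_zero] at h2
  have he' : (e : ℤ) ≤ 3 := by exact_mod_cast he
  have : c a i = 2 ∨ c a i = -2 := by
    rcases lt_or_gt_of_ne hi with h | h
    · right
      nlinarith
    · left
      nlinarith
  rcases this with h | h <;> rw [h] at h2 h3 <;> omega

theorem card_supp [Nontrivial J] (a : J) : (supp c a).card = e + 1 := by
  have h := hdiag a
  rw [← Finset.sum_subset (Finset.subset_univ (supp c a)) fun i _ hi => by
    rw [mem_supp, not_not] at hi
    rw [hi, zero_mul]] at h
  rw [Finset.sum_congr rfl fun i hi => sq_eq_one he hdiag hoff (mem_supp.mp hi), Finset.sum_const,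
    nsmul_one] at h
  exact_mod_cast h

theorem card_inter [Nontrivial J] {a b : J} (hab : a ≠ b) : (supp c a ∩ supp c b).card = e := by
  have h := hoff a b hab
  rw [← Finset.sum_subset (Finset.subset_univ (supp c a ∩ supp c b)) fun i _ hi => by
    rw [Finset.mem_inter, mem_supp, mem_supp, not_and_or, not_not, not_not] at hi
    rcases hi with hi | hi <;> rw [hi] <;> simp] at h
  set T := supp c a ∩ supp c b with hT
  have hs : ∀ i ∈ T, ∃ x : ℤ, c a i * c b i = 2 * x + 1 ∧ c a i * c b i ≤ 1 := by
    intro i hi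
    obtain ⟨h1, h2⟩ := Finset.mem_inter.mp hi
    rcases mul_self_eq_one_iff.mp (sq_eq_one he hdiag hoff (mem_supp.mp h1)) with h1 | h1 <;>
    rcases mul_self_eq_one_iff.mp (sq_eq_one he hdiag hoff (mem_supp.mp h2)) with h2 | h2 <;>
    rw [h1, h2]
    exacts [⟨0, by norm_num⟩, ⟨-1, by norm_num⟩, ⟨-1, by norm_num⟩, ⟨0, by norm_num⟩]
  choose! x hx hx1 using hs
  have hle : T.card ≤ e + 1 :=
    (Finset.card_le_card Finset.inter_subset_left).trans (card_supp he hdiag hoff a).le
  have hge : (e : ℤ) ≤ T.card := by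
    rw [← h, Finset.cast_card]
    exact Finset.sum_le_sum hx1
  rw [Finset.sum_congr rfl hx, Finset.sum_add_distrib, ← Finset.mul_sum, Finset.sum_const,
    nsmul_one] at h
  omega

/-- Small `e`, at least two vectors. -/
theorem card_eq_or [Nontrivial J] (hcov : ∀ i, ∃ a, c a i ≠ 0) :
    Fintype.card ι = e + Fintype.card J ∨ (Fintype.card ι ≤ e + 2 ∧ 3 ≤ Fintype.card J) := by
  classical
  obtain ⟨a, b, hab⟩ := exists_pair_ne J
  set T := supp c a ∩ supp c b with hT
  set U := supp c a ∪ supp c b with hU
  have hTc : T.card = e := card_inter he hdiag hoff hab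
  have hS : ∀ a, (supp c a).card = e + 1 := card_supp he hdiag hoff
  have hUc : U.card = e + 2 := by
    have := Finset.card_union_add_card_inter (supp c a) (supp c b)
    rw [← hT, ← hU, hTc, hS, hS] at this
    omega
  have hdich : ∀ d, ¬ T ⊆ supp c d → supp c d ⊆ U := by
    intro d hd
    have hda : a ≠ d := by rintro rfl; exact hd Finset.inter_subset_left
    have hdb : b ≠ d := by rintro rfl; exact hd Finset.inter_subset_right
    have hlt : (T ∩ supp c d).card < e := hTc ▸ Finset.card_lt_card
      (Finset.ssubset_iff_subset_ne.mpr ⟨Finset.inter_subset_left, fun h =>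
        hd (h ▸ Finset.inter_subset_right)⟩)
    have h1 := card_inter he hdiag hoff hda
    have h2 := card_inter he hdiag hoff hdb
    have h3 := Finset.card_union_add_card_inter (supp c a ∩ supp c d) (supp c b ∩ supp c d)
    rw [← Finset.union_inter_distrib_right, ← hU, ← Finset.inter_inter_distrib_right, ← hT,
      h1, h2] at h3
    have h4 : (U ∩ supp c d).card = (supp c d).card :=
      le_antisymm (Finset.card_le_card Finset.inter_subset_right) (by rw [hS]; omega)
    rw [← Finset.eq_of_subset_of_card_le Finset.inter_subset_right h4.ge]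
    exact Finset.inter_subset_left
  by_cases hall : ∀ d, T ⊆ supp c d
  · left
    have h1 : ∀ d, (supp c d \ T).card = 1 := fun d => by
      rw [Finset.card_sdiff_of_subset (hall d), hS, hTc, Nat.add_sub_cancel_left]
    have hu : (Finset.univ : Finset ι) =
        T ∪ Finset.univ.biUnion fun d => supp c d \ T := by
      refine Finset.ext fun i => ⟨fun _ => ?_, fun _ => Finset.mem_univ _⟩
      by_cases hi : i ∈ T
      · exact Finset.mem_union_left _ hi
      · obtain ⟨d, hd⟩ := hcov i
        exact Finset.mem_union_right _ (Finset.mem_biUnion.mpr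
          ⟨d, Finset.mem_univ _, Finset.mem_sdiff.mpr ⟨mem_supp.mpr hd, hi⟩⟩)
    rw [← Finset.card_univ, hu, Finset.card_union_of_disjoint, hTc, Finset.card_biUnion,
      Finset.sum_congr rfl fun d _ => h1 d, Finset.sum_const, Finset.card_univ, nsmul_one,
      Nat.cast_id]
    · intro d _ d' _ hdd
      refine Finset.disjoint_left.mpr fun i hi hi' => ?_
      have hlt : T.card < (supp c d ∩ supp c d').card :=
        Finset.card_lt_card (Finset.ssubset_iff_of_subset
          (Finset.subset_inter (hall d) (hall d')) |>.mpr ⟨i, Finset.mem_inter.mpr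
            ⟨(Finset.mem_sdiff.mp hi).1, (Finset.mem_sdiff.mp hi').1⟩, (Finset.mem_sdiff.mp hi).2⟩)
      rw [card_inter he hdiag hoff hdd, hTc] at hlt
      exact lt_irrefl _ hlt
    · exact Finset.disjoint_left.mpr fun i hi hi' => by
        obtain ⟨d, -, hd⟩ := Finset.mem_biUnion.mp hi'
        exact (Finset.mem_sdiff.mp hd).2 hi
  · right
    push Not at hall
    obtain ⟨d, hd⟩ := hall
    have hall' : ∀ d', supp c d' ⊆ U := by
      intro d'
      by_contra hd'
      have hT' : T ⊆ supp c d' := by
        by_contra h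
        exact hd' (hdich d' h)
      have hne : d ≠ d' := fun h => hd (h ▸ hT')
      obtain ⟨x, hx, hxU⟩ := Finset.not_subset.mp hd'
      have hxT : x ∉ T := fun h => hxU (Finset.inter_subset_union h)
      have he1 : supp c d' = insert x T := (Finset.eq_of_subset_of_card_le
        (Finset.insert_subset hx hT') (by rw [Finset.card_insert_of_notMem hxT, hS, hTc])).symm
      have hsub : supp c d ∩ supp c d' ⊆ T ∩ supp c d := by
        intro i hi
        obtain ⟨hi1, hi2⟩ := Finset.mem_inter.mp hi
        rw [he1, Finset.mem_insert] at hi2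
        rcases hi2 with rfl | hi2
        · exact absurd (hdich d hd hi1) hxU
        · exact Finset.mem_inter.mpr ⟨hi2, hi1⟩
      have hlt : (T ∩ supp c d).card < e := hTc ▸ Finset.card_lt_card
        (Finset.ssubset_iff_subset_ne.mpr ⟨Finset.inter_subset_left, fun h =>
          hd (h ▸ Finset.inter_subset_right)⟩)
      have := Finset.card_le_card hsub
      rw [card_inter he hdiag hoff hne] at this
      omega
    refine ⟨?_, ?_⟩
    · rw [← hUc, ← Finset.card_univ]
      refine Finset.card_le_card fun i _ => ?_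
      obtain ⟨d', hd'⟩ := hcov i
      exact hall' d' (mem_supp.mpr hd')
    · exact Fintype.two_lt_card_iff.mpr ⟨a, b, d, hab,
        fun h => hd (h ▸ Finset.inter_subset_left), fun h => hd (h ▸ Finset.inter_subset_right)⟩

end Small

end Cfsg.Agent.Lib.FreeAbelian.Combi
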