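import Cfsg.Agent.Lib.FreeAbelian.Equivariant

/-!
# Integral vectors from the coordinates

From generalized characters `R i` of an abelian `p`-group `D` of order `q` with a group `A` of
automorphisms of order `e` acting freely, and an integer valued `g` prime to `p`, the coordinates
`R i / g` being orthogonal on the orbits: `m = (q - 1) / e` integral vectors with Gram matrix `δ + e`
covering all indices (`exists_vectors`).
-/

set_option autoImplicit false
set_option linter.style.haveILetI false
set_option linter.unusedSectionVars false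

namespace Cfsg.Agent.Lib.FreeAbelian

open Cfsg.Agent.Lib.Characters.Basic Cfsg.Agent.Lib.BC78.Galois
open scoped ComplexConjugate

universe u v

/-- Representatives of the orbits of a free action. -/
theorem exists_free_reps {A : Type v} {X : Type u} [Group A] [MulAction A X] [Finite X]
    (hfree : ∀ (x : X) (a : A), a • x = x → a = 1) :
    ∃ (J : Type u) (_ : Fintype J) (r : J → X), Function.Bijective fun z : J × A => z.2 • r z.1 := by
  haveI := Fintype.ofFinite (MulAction.orbitRel.Quotient A X)
  refine ⟨MulAction.orbitRel.Quotient A X, inferInstance, Quotient.out, ?_, ?_⟩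
  · rintro ⟨j, a⟩ ⟨j', a'⟩ h
    simp only at h
    have hj : j = j' := by
      rw [← Quotient.out_eq' j, ← Quotient.out_eq' j']
      refine Quotient.sound' ?_
      rw [MulAction.orbitRel_apply]
      exact ⟨a⁻¹ * a', show (a⁻¹ * a') • j'.out = j.out by rw [mul_smul, ← h, inv_smul_smul]⟩
    subst hj
    have h1 := hfree j.out (a'⁻¹ * a) (by rw [mul_smul, h, inv_smul_smul])
    rw [Prod.mk.injEq]
    exact ⟨rfl, (inv_mul_eq_one.mp h1).symm⟩
  · intro x
    have h : MulAction.orbitRel A X x (Quotient.mk'' x : MulAction.orbitRel.Quotient A X).out :=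
      Quotient.exact' (Quotient.out_eq' _).symm
    rw [MulAction.orbitRel_apply] at h
    obtain ⟨a, ha⟩ := h
    exact ⟨(Quotient.mk'' x, a), ha⟩

variable {D : Type u} [CommGroup D] [Fintype D]

theorem sum_mul_conj (L L' : D →* ℂ) [Decidable (L = L')] :
    ∑ z, L z * conj (L' z) = if L = L' then (Fintype.card D : ℂ) else 0 := by
  classical
  let N : D →* ℂ :=
    { toFun := fun z => L z * conj (L' z)
      map_one' := by simp
      map_mul' := fun a b => by simp [map_mul]; ring }
  have h := sum_hom_units N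
  have hN : N = 1 ↔ L = L' := by
    constructor
    · intro e
      refine MonoidHom.ext fun z => ?_
      have h1 : L z * conj (L' z) = 1 := DFunLike.congr_fun e z
      rw [← hom_inv] at h1
      calc L z = L z * (L' z⁻¹ * L' z) := by rw [← map_mul, inv_mul_cancel, map_one, mul_one]
        _ = L' z := by rw [← mul_assoc, h1, one_mul]
    · intro e
      refine MonoidHom.ext fun z => ?_
      show L z * conj (L' z) = 1
      rw [← hom_inv, e, ← map_mul, mul_inv_cancel, map_one]
  split_ifs with hc
  · rw [show (∑ z, L z * conj (L' z)) = ∑ z, N z from rfl, h, if_pos (hN.mpr hc)]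
  · rw [show (∑ z, L z * conj (L' z)) = ∑ z, N z from rfl, h, if_neg (fun e => hc (hN.mp e))]
    simp

theorem finite_dual : Finite (D →* ℂ) := by
  have := Monoid.neZero_exponent_of_finite (G := D)
  haveI : Finite (D →* ℂˣ) := Nat.finite_of_card_ne_zero
    (by rw [CommGroup.card_monoidHom_of_hasEnoughRootsOfUnity]; exact Nat.card_pos.ne')
  exact Finite.of_surjective (fun f : D →* ℂˣ => (Units.coeHom ℂ).comp f)
    fun L => ⟨L.toHomUnits, MonoidHom.ext fun z => rfl⟩

theorem card_dual_hom : Nat.card (D →* ℂ) = Nat.card D := by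
  have := Monoid.neZero_exponent_of_finite (G := D)
  rw [← CommGroup.card_monoidHom_of_hasEnoughRootsOfUnity D ℂ]
  exact Nat.card_congr
    { toFun := fun L => L.toHomUnits
      invFun := fun f => (Units.coeHom ℂ).comp f
      left_inv := fun L => MonoidHom.ext fun z => rfl
      right_inv := fun f => MonoidHom.ext fun z => Units.ext rfl }

variable {p : ℕ} [Fact p.Prime]

set_option maxHeartbeats 1000000 in
/-- **The integral vectors.** -/
theorem exists_vectors (hp : IsPGroup p D) (A : Subgroup (MulAut D))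
    (hfree : ∀ α ∈ A, ∀ u : D, u ≠ 1 → α u = u → α = 1) {ι : Type v} [Fintype ι]
    (R : ι → D → ℂ) (g : D → ℤ) (hR : ∀ i, R i ∈ vchar D)
    (hh : ∃ h ∈ vchar D, ∀ v : D, v ≠ 1 → h v = (g v : ℂ))
    (hg0 : ∀ v : D, v ≠ 1 → ¬ (p : ℤ) ∣ g v)
    (hgk : ∀ (v : D) (k : ℕ), k.Coprime (Nat.card D) → v ≠ 1 → g (v ^ k) = g v)
    (hinv : ∀ α ∈ A, ∀ v : D, v ≠ 1 → g (α v) = g v ∧ ∀ i, R i (α v) = R i v)
    (hint : ∀ i (v : D), v ≠ 1 → IsIntegral ℤ (R i v / (g v : ℂ)))
    (horth : ∀ v v' : D, v ≠ 1 → v' ≠ 1 → (∀ α ∈ A, α v ≠ v') →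
      ∑ i, conj (R i v / (g v : ℂ)) * (R i v' / (g v' : ℂ)) = 0)
    (hnorm : ∀ v : D, v ≠ 1 →
      ∑ i, conj (R i v / (g v : ℂ)) * (R i v / (g v : ℂ)) = (Nat.card D : ℂ))
    (hne : ∀ i (v : D), v ≠ 1 → R i v / (g v : ℂ) ≠ 0) (hD : 1 < Nat.card D) :
    ∃ (J : Type u) (_ : Fintype J) (c : J → ι → ℤ),
      Nat.card A * Fintype.card J + 1 = Nat.card D ∧
      (∀ a b : J, a ≠ b → ∑ i, c a i * c b i = (Nat.card A : ℤ)) ∧
      (∀ a : J, ∑ i, c a i * c a i = (Nat.card A : ℤ) + 1) ∧ ∀ i, ∃ a, c a i ≠ 0 := by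
  classical
  haveI : Finite A := inferInstance
  haveI := Fintype.ofFinite A
  haveI := finite_dual (D := D)
  haveI := Fintype.ofFinite (D →* ℂ)
  set q := Nat.card D with hq
  set e := Nat.card A with he
  have hqc : (q : ℂ) ≠ 0 := Nat.cast_ne_zero.mpr Nat.card_pos.ne'
  have hec : (e : ℂ) ≠ 0 := Nat.cast_ne_zero.mpr Nat.card_pos.ne'
  have hA1 : ∀ (α : A) (v : D), v ≠ 1 → (α : MulAut D) v ≠ 1 := fun α v hv h =>
    hv ((α : MulAut D).map_eq_one_iff.mp h)
  -- the action on the non-trivial characters
  letI act : MulAction A {L : D →* ℂ // L ≠ 1} :=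
    { smul := fun α L => ⟨L.1.comp ((α : MulAut D)⁻¹ : MulAut D).toMonoidHom, fun h => L.2
        (MonoidHom.ext fun z => by simpa using DFunLike.congr_fun h ((α : MulAut D) z))⟩
      one_smul := fun L => Subtype.ext (MonoidHom.ext fun z => rfl)
      mul_smul := fun α β L => Subtype.ext (MonoidHom.ext fun z => rfl) }
  have hsmul : ∀ (α : A) (L : {L : D →* ℂ // L ≠ 1}) (z : D),
      (α • L).1 z = L.1 ((α⁻¹ : A).1 z) := fun _ _ _ => rfl
  obtain ⟨J, hJ, rep, hrep⟩ := exists_free_reps (A := A) (X := {L : D →* ℂ // L ≠ 1}) fun L α h => by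
    by_contra hne
    refine L.2 (MonoidHom.ext fun z => ?_)
    have hinj : Function.Injective fun v : D => (α : MulAut D) v * v⁻¹ := by
      intro v w hvw
      by_contra hvw'
      refine hne (Subtype.ext (hfree α α.2 (v * w⁻¹) (fun h1 => hvw' (mul_inv_eq_one.mp h1)) ?_))
      simp only [map_mul, map_inv] at hvw ⊢
      calc (α : MulAut D) v * ((α : MulAut D) w)⁻¹
          = ((α : MulAut D) v * v⁻¹) * (v * ((α : MulAut D) w)⁻¹) := by
            rw [mul_assoc, inv_mul_cancel_left]
        _ = ((α : MulAut D) w * w⁻¹) * (v * ((α : MulAut D) w)⁻¹) := by rw [hvw]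
        _ = v * w⁻¹ := by
            rw [mul_mul_mul_comm, mul_comm ((α : MulAut D) w) v, mul_assoc v,
              mul_comm w⁻¹ ((α : MulAut D) w)⁻¹, mul_inv_cancel_left]
    obtain ⟨v, hv⟩ := (Finite.injective_iff_surjective.mp hinj) z
    show L.1 z = 1
    have h1 := DFunLike.congr_fun (congrArg Subtype.val h) ((α : MulAut D) v)
    rw [hsmul, Subgroup.coe_inv, MulAut.inv_def, MulEquiv.symm_apply_apply] at h1
    rw [← hv]
    show L.1 ((α : MulAut D) v * v⁻¹) = 1
    rw [map_mul, ← h1, ← map_mul, mul_inv_cancel, map_one]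
  have hcard : e * Fintype.card J + 1 = q := by
    have h1 := Nat.card_congr (Equiv.ofBijective _ hrep)
    rw [Nat.card_prod, Nat.card_eq_fintype_card (α := J)] at h1
    have h2 : Nat.card {L : D →* ℂ // L ≠ 1} + 1 = q := by
      rw [hq, ← card_dual_hom (D := D), Nat.card_eq_fintype_card, Nat.card_eq_fintype_card,
        Fintype.card_subtype_compl, Fintype.card_subtype_eq,
        Nat.sub_add_cancel Fintype.card_pos]
    rw [← h1, mul_comm] at h2
    exact h2
  -- the functions
  let th : (D →* ℂ) → D → ℂ := fun L v => ∑ α : A, L ((α : MulAut D) v)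
  let fn : (D →* ℂ) → D → ℂ := fun L v => th L v - (e : ℂ)
  have hth_inv : ∀ L, ∀ β : A, ∀ v, th L ((β : MulAut D) v) = th L v := fun L β v =>
    Fintype.sum_equiv (Equiv.mulRight β) _ _ fun α => rfl
  have hfn1 : ∀ L, fn L 1 = 0 := fun L => by
    simp [fn, th, e, Nat.card_eq_fintype_card]
  have hfnm : ∀ L, fn L ∈ vchar D := fun L => by
    have e1 : fn L = ∑ α : A, ((L.comp (α : MulAut D).toMonoidHom : D →* ℂ) : D → ℂ) -
        (e : ℤ) • (1 : D → ℂ) := funext fun v => by simp [fn, th, Finset.sum_apply]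
    rw [e1]
    exact sub_mem (sum_mem fun α _ => mem_of_isCharacter (Brauer.Elementary.isCharacter_hom _))
      (zsmul_mem (one_mem _) _)
  -- the coordinates
  let d : ι → D → ℂ := fun i v => if v = 1 then 0 else R i v / (g v : ℂ)
  have hd : ∀ i v, v ≠ 1 → d i v = R i v / (g v : ℂ) := fun i v hv => if_neg hv
  have hdint : ∀ i v, IsIntegral ℤ (d i v) := fun i v => by
    by_cases hv : v = 1
    · simp only [d, if_pos hv]; exact isIntegral_zero
    · rw [hd i v hv]; exact hint i v hv
  have hginv : ∀ v : D, v ≠ 1 → g v⁻¹ = g v := fun v hv => by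
    have hc : (q - 1).Coprime q := by
      have h : q - 1 + 1 = q := Nat.sub_add_cancel Nat.card_pos
      conv_rhs => rw [← h]
      exact Nat.coprime_self_add_right.mpr (Nat.coprime_one_right _)
    have h1 : v⁻¹ = v ^ (q - 1) := inv_eq_of_mul_eq_one_right (by
      rw [← pow_succ', Nat.sub_add_cancel Nat.card_pos, pow_card_eq_one'])
    rw [h1, hgk v _ hc hv]
  have hdconj : ∀ i v, conj (d i v) = d i v⁻¹ := fun i v => by
    by_cases hv : v = 1
    · simp [d, hv]
    · rw [hd i v hv, hd i v⁻¹ (inv_ne_one.mpr hv), map_div₀, map_intCast, conj_vchar (hR i),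
        hginv v hv]
  have hdgal : ∀ i, Equi (d i) := fun i => by
    refine ⟨hdint i, fun σ k hk z hm => ?_⟩
    by_cases hz : z = 1
    · subst hz
      simp only [d, one_pow, if_true] at hm ⊢
      exact congrArg Subtype.val (map_zero σ)
    have hzk : z ^ k ≠ 1 := fun h => hz ((powCoprime hk.1.symm).injective (h.trans (one_pow k).symm))
    have hgz : (g z : ℂ) ≠ 0 := Int.cast_ne_zero.mpr fun h => hg0 z hz (h ▸ dvd_zero _)
    have h1 := (equi_of_mem (hR i)).gal σ k hk z
      (mem_alg_of_isIntegral ((equi_of_mem (hR i)).int z))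
    rw [show (⟨R i z, mem_alg_of_isIntegral ((equi_of_mem (hR i)).int z)⟩ : Alg) =
      ⟨d i z, hm⟩ * ((g z : ℤ) : Alg) from Subtype.ext (by
        push_cast
        rw [hd i z hz, div_mul_cancel₀ _ hgz]), map_mul, map_intCast] at h1
    push_cast at h1
    rw [hd i _ hzk, hgk z k hk.1 hz, eq_div_iff hgz]
    exact h1
  have hdinv : ∀ i, ∀ α : A, ∀ v, d i ((α : MulAut D) v) = d i v := fun i α v => by
    by_cases hv : v = 1
    · rw [hv, map_one]
    · rw [hd i v hv, hd i _ (hA1 α v hv), (hinv α α.2 v hv).1, (hinv α α.2 v hv).2 i]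
  -- sums
  let S : (D →* ℂ) → ι → ℂ := fun L i => ∑ v, fn L v * conj (d i v)
  obtain ⟨h, hhm, hhg⟩ := hh
  have hSint : ∀ L i, ∃ c : ℤ, S L i = (e : ℂ) * q * c := by
    intro L i
    have hfd : ∀ v, IsIntegral ℤ (fn L v * conj (d i v)) := fun v =>
      ((equi_of_mem (hfnm L)).int v).mul (by rw [hdconj]; exact hdint i _)
    -- the orbit sum
    have hse : IsIntegral ℤ (S L i / (e : ℂ)) := by
      letI act2 : MulAction A {v : D // v ≠ 1} :=
        { smul := fun α v => ⟨(α : MulAut D) v.1, hA1 α v.1 v.2⟩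
          one_smul := fun v => Subtype.ext rfl
          mul_smul := fun α β v => Subtype.ext rfl }
      obtain ⟨J₂, hJ₂, r₂, hr₂⟩ := exists_free_reps (A := A) (X := {v : D // v ≠ 1})
        fun v α hα => Subtype.ext (hfree α α.2 v.1 v.2 (congrArg Subtype.val hα))
      have h1 : S L i = (e : ℂ) * ∑ a : J₂, fn L (r₂ a).1 * conj (d i (r₂ a).1) := by
        show ∑ v, fn L v * conj (d i v) = _
        rw [Fintype.sum_eq_add_sum_subtype_ne (fun v => fn L v * conj (d i v)) (1 : D), hfn1,
          zero_mul, zero_add, ← (Equiv.ofBijective _ hr₂).sum_comp, Fintype.sum_prod_type,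
          Finset.mul_sum]
        refine Finset.sum_congr rfl fun a _ => ?_
        rw [Finset.sum_eq_card_nsmul (b := fn L (r₂ a).1 * conj (d i (r₂ a).1)) fun α _ => ?_,
          Finset.card_univ, nsmul_eq_mul, he, Nat.card_eq_fintype_card]
        show fn L ((α : MulAut D) (r₂ a).1) * conj (d i ((α : MulAut D) (r₂ a).1)) = _
        rw [hdinv]
        show (th L _ - _) * _ = _
        rw [hth_inv]
      rw [h1, mul_div_assoc, mul_comm, div_mul_cancel₀ _ hec]
      exact IsIntegral.sum _ fun a _ => hfd _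
    -- the congruence
    have hsq : IsIntegral ℤ (S L i / (q : ℂ)) := by
      set N := Nat.totient q with hN
      have hN0 : 0 < N := Nat.totient_pos.mpr Nat.card_pos
      choose u hu using fun v : {v : D // v ≠ 1} => modEq_pow_totient hp (hg0 v.1 v.2)
      have hmem : fn L * (fun v => R i v⁻¹) * h ^ (N - 1) ∈ vchar D :=
        mul_mem (mul_mem (hfnm L) (comp_inv_mem (hR i))) (pow_mem hhm _)
      obtain ⟨n, hn⟩ := exists_total hmem
      let w : D → ℂ := fun v => if hv : v = 1 then 0 else (u ⟨v, hv⟩ : ℂ)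
      have key : ∀ v, (fn L * (fun v => R i v⁻¹) * h ^ (N - 1)) v =
          fn L v * conj (d i v) + (q : ℂ) * (fn L v * conj (d i v) * w v) := fun v => by
        by_cases hv : v = 1
        · subst hv
          simp [hfn1]
        have hgv : (g v : ℂ) ≠ 0 := Int.cast_ne_zero.mpr fun h => hg0 v hv (h ▸ dvd_zero _)
        have h1 : ((g v : ℂ)) ^ N - 1 = (q : ℂ) * w v := by
          simp only [w, dif_neg hv]
          exact_mod_cast hu ⟨v, hv⟩
        have h2 : (g v : ℂ) * (g v : ℂ) ^ (N - 1) = (g v : ℂ) ^ N := by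
          rw [← pow_succ', Nat.sub_add_cancel hN0]
        have h3 : R i v⁻¹ = conj (d i v) * (g v : ℂ) := by
          rw [hd i v hv, map_div₀, map_intCast, div_mul_cancel₀ _ hgv, conj_vchar (hR i)]
        simp only [Pi.mul_apply, Pi.pow_apply, hhg v hv, h3]
        linear_combination fn L v * conj (d i v) * (h1 + h2)
      rw [Finset.sum_congr rfl fun v _ => key v, Finset.sum_add_distrib, ← Finset.mul_sum,
        ← Nat.card_eq_fintype_card] at hn
      have h4 : S L i / (q : ℂ) = (n : ℂ) - ∑ v, fn L v * conj (d i v) * w v := by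
        rw [div_eq_iff hqc]
        show ∑ v, fn L v * conj (d i v) = _
        linear_combination hn
      rw [h4]
      refine (isIntegral_algebraMap (x := n)).sub (IsIntegral.sum _ fun v _ => (hfd v).mul ?_)
      simp only [w]
      split_ifs
      exacts [isIntegral_zero, isIntegral_algebraMap (R := ℤ)]
    have hboth : IsIntegral ℤ (S L i / ((e : ℂ) * q)) := by
      have e1 : S L i / ((e : ℂ) * q) =
          S L i / (e : ℂ) - ((Fintype.card J : ℤ) : ℂ) * (S L i / (q : ℂ)) := by
        have : ((e : ℂ) * (Fintype.card J : ℂ) + 1) = (q : ℂ) := by exact_mod_cast hcard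
        field_simp
        push_cast
        linear_combination S L i * this
      rw [e1]
      exact hse.sub ((isIntegral_algebraMap (x := (Fintype.card J : ℤ))).mul hsq)
    obtain ⟨c, hc⟩ := exists_int_of_fixed hboth fun σ => by
      obtain ⟨k, hk⟩ := exists_act σ (q := q) Nat.card_pos.ne'
      have hSm : IsIntegral ℤ (S L i) := IsIntegral.sum _ fun v _ => hfd v
      have e2 : (⟨S L i / ((e : ℂ) * q), mem_alg_of_isIntegral hboth⟩ : Alg) =
          ⟨S L i, mem_alg_of_isIntegral hSm⟩ / ((e : Alg) * (q : Alg)) := Subtype.ext (by push_cast; rfl)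
      have e3 : (⟨S L i, mem_alg_of_isIntegral hSm⟩ : Alg) = ∑ v,
          (⟨fn L v, mem_alg_of_isIntegral ((equi_of_mem (hfnm L)).int v)⟩ : Alg) *
            ⟨d i v⁻¹, mem_alg_of_isIntegral (hdint i v⁻¹)⟩ := by
        apply Subtype.ext
        push_cast
        exact Finset.sum_congr rfl fun v _ => by rw [hdconj]
      rw [e2, map_div₀, map_mul, map_natCast, map_natCast, e3, map_sum]
      simp only [map_mul]
      push_cast
      congr 1
      refine Fintype.sum_equiv (powCoprime hk.1.symm) _ _ fun v => ?_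
      rw [(equi_of_mem (hfnm L)).gal σ k hk, (hdgal i).gal σ k hk, inv_pow, hdconj]
      rfl
    exact ⟨c, by rw [hc, mul_div_cancel₀ _ (mul_ne_zero hec hqc)]⟩
  choose c hc using hSint
  -- the pairing
  have horbit : ∀ v : D, v ≠ 1 → ∀ v' : D, ∑ i, conj (d i v) * d i v' =
      ∑ α : A, if v' = (α : MulAut D) v then (q : ℂ) else 0 := by
    intro v hv v'
    by_cases hex : ∃ α : A, (α : MulAut D) v = v'
    · obtain ⟨α, rfl⟩ := hex
      rw [Finset.sum_eq_single α (fun β _ hβ => if_neg fun h => hβ (Subtype.ext (by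
        have h1 := hfree ((α : MulAut D)⁻¹ * β) (mul_mem (inv_mem α.2) β.2) v hv (by
          show (α : MulAut D)⁻¹ ((β : MulAut D) v) = v
          rw [← h]
          exact MulEquiv.symm_apply_apply _ _)
        exact (inv_mul_eq_one.mp h1).symm))) (fun h => absurd (Finset.mem_univ _) h), if_pos rfl,
        ← hnorm v hv]
      exact Finset.sum_congr rfl fun i _ => by rw [hdinv, hd i v hv]
    · push Not at hex
      rw [Finset.sum_eq_zero fun α _ => if_neg (hex α).symm]
      by_cases hv' : v' = 1
      · simp [d, hv']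
      · simp only [hd _ v hv, hd _ v' hv']
        exact horth v v' hv hv' fun α hα => hex ⟨α, hα⟩
  have hgram : ∀ L L' : D →* ℂ, ((∑ i, c L i * c L' i : ℤ) : ℂ) * ((e : ℂ) * q) =
      ∑ v, fn L v * conj (fn L' v) := by
    intro L L'
    have h1 : ∀ i, (((c L i * c L' i : ℤ)) : ℂ) * ((e : ℂ) * q) ^ 2 =
        ∑ v, ∑ v', fn L v * conj (fn L' v') * (conj (d i v) * d i v') := fun i => by
      have hreal : (c L' i : ℂ) * ((e : ℂ) * q) = conj (S L' i) := by
        rw [hc, map_mul, map_mul, map_intCast, Complex.conj_natCast, Complex.conj_natCast]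
        ring
      have hreal' : conj (S L' i) = ∑ v', conj (fn L' v') * d i v' := by
        simp only [S, map_sum, map_mul, Complex.conj_conj]
      have h : (S L i) * conj (S L' i) = _ := rfl
      rw [show (((c L i * c L' i : ℤ)) : ℂ) * ((e : ℂ) * q) ^ 2 = S L i * conj (S L' i) by
        rw [← hreal, hc]; push_cast; ring, hreal', Finset.sum_mul_sum]
      exact Finset.sum_congr rfl fun v _ => Finset.sum_congr rfl fun v' _ => by ring
    have h2 : ((∑ i, c L i * c L' i : ℤ) : ℂ) * ((e : ℂ) * q) ^ 2 =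
        ((e : ℂ) * q) * ∑ v, fn L v * conj (fn L' v) := by
      rw [Int.cast_sum, Finset.sum_mul, Finset.sum_congr rfl fun i _ => h1 i, Finset.sum_comm,
        Finset.mul_sum]
      refine Finset.sum_congr rfl fun v _ => ?_
      rw [Finset.sum_comm]
      by_cases hv : v = 1
      · simp [hv, hfn1]
      have hy : ∀ y : D, ∑ i, fn L v * conj (fn L' y) * (conj (d i v) * d i y) =
          ∑ α : A, if y = (α : MulAut D) v then fn L v * conj (fn L' y) * (q : ℂ) else 0 := fun y => by
        rw [← Finset.mul_sum, horbit v hv y, Finset.mul_sum]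
        simp only [mul_ite, mul_zero]
      rw [Finset.sum_congr rfl fun y _ => hy y]
      rw [Finset.sum_comm]
      simp only [Finset.sum_ite_eq', Finset.mem_univ, if_true]
      rw [Finset.sum_eq_card_nsmul (b := fn L v * conj (fn L' v) * (q : ℂ)) fun α _ => by
          show fn L v * conj (th L' ((α : MulAut D) v) - (e : ℂ)) * (q : ℂ) = _
          rw [hth_inv],
        Finset.card_univ, nsmul_eq_mul, he, Nat.card_eq_fintype_card]
      ring
    exact mul_left_cancel₀ (mul_ne_zero hec hqc) (by linear_combination h2)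
  have hrep' : ∀ a b : J, ∀ α β : A,
      (rep a).1.comp (α : MulAut D).toMonoidHom = (rep b).1.comp (β : MulAut D).toMonoidHom ↔
        a = b ∧ α = β := by
    intro a b α β
    refine ⟨fun h => ?_, fun ⟨h1, h2⟩ => by rw [h1, h2]⟩
    have h1 : α⁻¹ • rep a = β⁻¹ • rep b := Subtype.ext (MonoidHom.ext fun z => by
      rw [hsmul, hsmul, inv_inv, inv_inv]
      exact DFunLike.congr_fun h z)
    have h2 := hrep.1 (a₁ := (a, α⁻¹)) (a₂ := (b, β⁻¹)) h1
    rw [Prod.mk.injEq, inv_inj] at h2
    exact h2
  have hsum0 : ∀ L : D →* ℂ, L ≠ 1 → ∑ v, L v = 0 := fun L hL => by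
    have h1 := sum_mul_conj L 1
    rw [if_neg hL] at h1
    simpa using h1
  have hpair : ∀ a b : J, ∑ v, fn (rep a).1 v * conj (fn (rep b).1 v) =
      (e : ℂ) * q * ((if a = b then (1 : ℂ) else 0) + e) := by
    intro a b
    have h1 : ∀ a : J, ∑ v, th (rep a).1 v = 0 := fun a => by
      show ∑ v, ∑ α : A, _ = _
      rw [Finset.sum_comm]
      refine Finset.sum_eq_zero fun α _ => ?_
      exact ((α : MulAut D).toEquiv.sum_comp fun w => (rep a).1 w).trans (hsum0 _ (rep a).2)
    have h2 : ∑ v, th (rep a).1 v * conj (th (rep b).1 v) =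
        if a = b then (e : ℂ) * q else 0 := by
      simp only [th, map_sum, Finset.sum_mul_sum]
      rw [Finset.sum_comm]
      have h3 : ∀ α : A, ∑ v, ∑ β : A,
          (rep a).1 ((α : MulAut D) v) * conj ((rep b).1 ((β : MulAut D) v)) =
          if a = b then (q : ℂ) else 0 := fun α => by
        rw [Finset.sum_comm]
        have h4 : ∀ β : A, ∑ v, (rep a).1 ((α : MulAut D) v) * conj ((rep b).1 ((β : MulAut D) v)) =
            if a = b ∧ α = β then (q : ℂ) else 0 := fun β => by
          refine (sum_mul_conj ((rep a).1.comp (α : MulAut D).toMonoidHom)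
            ((rep b).1.comp (β : MulAut D).toMonoidHom)).trans ?_
          rw [hq, Nat.card_eq_fintype_card]
          exact if_congr (hrep' a b α β) rfl rfl
        rw [Finset.sum_congr rfl fun β _ => h4 β]
        by_cases hab : a = b <;> simp [hab]
      rw [Finset.sum_congr rfl fun α _ => h3 α, Finset.sum_const, Finset.card_univ, nsmul_eq_mul,
        he, Nat.card_eq_fintype_card]
      split_ifs <;> simp
    have h5 : ∀ v, fn (rep a).1 v * conj (fn (rep b).1 v) =
        th (rep a).1 v * conj (th (rep b).1 v) - (e : ℂ) * th (rep a).1 v -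
          (e : ℂ) * conj (th (rep b).1 v) + (e : ℂ) * e := fun v => by
      simp only [fn, map_sub, Complex.conj_natCast]
      ring
    rw [Finset.sum_congr rfl fun v _ => h5 v, Finset.sum_add_distrib, Finset.sum_sub_distrib,
      Finset.sum_sub_distrib, h2, ← Finset.mul_sum, ← Finset.mul_sum, ← map_sum, h1, h1,
      Finset.sum_const, Finset.card_univ, nsmul_eq_mul, ← Nat.card_eq_fintype_card, ← hq]
    split_ifs <;> simp <;> ring
  refine ⟨J, hJ, fun a i => c (rep a).1 i, hcard, fun a b hab => ?_, fun a => ?_, fun i => ?_⟩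
  · have h1 := hgram (rep a).1 (rep b).1
    rw [hpair, if_neg hab, zero_add, mul_comm ((e : ℂ) * q)] at h1
    exact_mod_cast mul_right_cancel₀ (mul_ne_zero hec hqc) h1
  · have h1 := hgram (rep a).1 (rep a).1
    rw [hpair, if_pos rfl, mul_comm ((e : ℂ) * q)] at h1
    have h2 := mul_right_cancel₀ (mul_ne_zero hec hqc) h1
    rw [add_comm] at h2
    exact_mod_cast h2
  · by_contra hno
    push Not at hno
    have hS0 : ∀ L : D →* ℂ, S L i = 0 := by
      intro L
      by_cases hL : L = 1
      · subst hL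
        refine Finset.sum_eq_zero fun v _ => ?_
        simp [fn, th, e, Nat.card_eq_fintype_card]
      obtain ⟨⟨a, α⟩, hα⟩ := hrep.2 ⟨L, hL⟩
      have hLa : ∀ v, th L v = th (rep a).1 v := fun v => by
        have hval : ∀ z, L z = (rep a).1 ((α⁻¹ : A).1 z) := fun z =>
          (DFunLike.congr_fun (congrArg Subtype.val hα) z).symm
        exact Fintype.sum_equiv (Equiv.mulLeft α⁻¹) _ _ fun β => hval _
      have e1 : S L i = S (rep a).1 i := by
        refine Finset.sum_congr rfl fun v _ => ?_
        show (th L v - _) * _ = (th _ v - _) * _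
        rw [hLa]
      rw [e1, hc, hno a, Int.cast_zero, mul_zero]
    -- Fourier inversion
    set T0 : ℂ := ∑ v, conj (d i v) with hT0
    let F : D → ℂ := fun v => if v = 1 then -T0 else conj (d i v)
    have hFd : ∀ L : D →* ℂ, ∑ v, L v * F v = 0 := by
      intro L
      have h1 : ∑ v, L v * F v = ∑ v, L v * conj (d i v) - T0 := by
        rw [Fintype.sum_eq_add_sum_subtype_ne (fun v => L v * F v) (1 : D),
          Fintype.sum_eq_add_sum_subtype_ne (fun v => L v * conj (d i v)) (1 : D)]
        simp only [F, d, if_true, map_one, one_mul, map_zero, mul_zero, zero_add]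
        rw [Finset.sum_congr rfl fun v _ => by rw [if_neg v.2]]
        ring
      have h2 : (e : ℂ) * ∑ v, L v * conj (d i v) = ∑ v, th L v * conj (d i v) := by
        have hα : ∀ α : A, ∑ v, L ((α : MulAut D) v) * conj (d i v) = ∑ v, L v * conj (d i v) :=
          fun α => Fintype.sum_equiv (α : MulAut D).toEquiv _ _ fun v => by
            show _ = L ((α : MulAut D) v) * conj (d i ((α : MulAut D) v))
            rw [hdinv]
        simp only [th, Finset.sum_mul]
        rw [Finset.sum_comm, Finset.sum_congr rfl fun α _ => hα α, Finset.sum_const,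
          Finset.card_univ, nsmul_eq_mul, he, Nat.card_eq_fintype_card]
      have h3 := hS0 L
      simp only [S, fn, sub_mul, Finset.sum_sub_distrib, ← Finset.mul_sum, ← h2] at h3
      refine mul_left_cancel₀ hec ?_
      rw [h1, mul_zero]
      linear_combination h3
    have hF0 : F = 0 := by
      refine Characters.Complete.eq_zero_of_classInner_eq_zero (classFun F) fun χ => ?_
      have h1 := hFd ((lin χ).comp (MulEquiv.inv D).toMonoidHom)
      rw [Cfsg.classInner]
      refine mul_eq_zero_of_right _ (Eq.trans (Finset.sum_congr rfl fun v _ => ?_) h1)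
      rw [mul_comm, ← lin_apply, ← hom_inv]
      rfl
    obtain ⟨v, hv⟩ : ∃ v : D, v ≠ 1 := by
      haveI : Nontrivial D := Finite.one_lt_card_iff_nontrivial.mp hD
      exact exists_ne 1
    have h1 : conj (d i v) = 0 := by
      have := congrFun hF0 v
      simpa [F, hv] using this
    rw [starRingEnd_apply, star_eq_zero, hd i v hv] at h1
    exact hne i v hv h1

end Cfsg.Agent.Lib.FreeAbelian
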