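import Cfsg.Agent.Lib.FreeAbelian.Data
import Cfsg.Agent.Lib.FreeAbelian.Vectors
import Cfsg.Agent.Lib.FreeAbelian.Combi
import Cfsg.Agent.Lib.BrauerPairs.RankAbelian
import Cfsg.Agent.Lib.CyclicBlocks.Rank

/-!
# Blocks with abelian defect group and free inertial action

With `e` the inertial index, `q` the order of the defect group and `m = (q - 1) / e`: the block has
`k = l + m` characters, `k ≤ e + m`, and `k = e + m` for `e ≤ 3` (`counts`).
-/

set_option autoImplicit false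
set_option linter.style.haveILetI false
set_option linter.unusedSectionVars false

namespace Cfsg.Agent.Lib.FreeAbelian.Block

open MonoidAlgebra
open scoped ComplexConjugate
open Cfsg.Agent.Lib.Blocks Cfsg.Agent.Lib.Blocks.Contrib
open Cfsg.Agent.Lib.BrauerPairs.Center Cfsg.Agent.Lib.BrauerPairs.Pairs
open Cfsg.Agent.Lib.BrauerPairs.Maximal Cfsg.Agent.Lib.BrauerPairs.Bridge
open Cfsg.Agent.Lib.BrauerPairs.Fusion Cfsg.Agent.Lib.BrauerPairs.Local
open Cfsg.Agent.Lib.StarChar.Comp Cfsg.Agent.Lib.StarChar.Section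
open Cfsg.Agent.Lib.StarChar.NilpotentPairing (blkAt phiSum)
open Cfsg.Agent.Lib.StarChar.AbelianPairing Cfsg.Agent.Lib.StarChar.AbelianSection
open Cfsg.Agent.Lib.Characters.Basic

universe u

attribute [local instance] Ideal.Quotient.field

variable {M : Ideal Cfsg.AlgInt} [M.IsMaximal] {G : Type u} [Group G] [Fintype G]
  {p : ℕ} [Fact p.Prime] [CharP (Res M) p]

/-- Parseval's equality. -/
theorem classInner_eq_sum [Fintype (Cfsg.IrrCharacter G)] {Θ : G → ℂ}
    (hΘ : Cfsg.IsClassFunction G Θ) (Θ' : G → ℂ) :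
    Cfsg.classInner Θ Θ' = ∑ φ : Cfsg.IrrCharacter G,
      Cfsg.classInner Θ φ * conj (Cfsg.classInner Θ' φ) := by
  classical
  conv_lhs => arg 1; rw [Characters.Complete.classFunction_eq_sum hΘ]
  rw [classInner_sum_left]
  refine Finset.sum_congr rfl fun φ _ => ?_
  rw [Induced.Basic.classInner_smul_left, ← Induced.Basic.classInner_conj_symm Θ' (φ : G → ℂ)]

variable {P : Subgroup G} {c : Blk (Res M) (Subgroup.centralizer (P : Set G))}

local notation "C[" P "]" => Subgroup.centralizer ((P : Subgroup G) : Set G)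

theorem card_autHom_range :
    Nat.card (autHom (⟨P, c⟩ : Idx (Res M) G)).range =
      C[P].relIndex (stab (⟨P, c⟩ : Idx (Res M) G)) := by
  rw [Subgroup.relIndex, ← Subgroup.index_ker, autHom_ker]

variable {ψ : Blk (Res M) G} (hM : Cfsg.IsPModular p M)
  (htop : Top p (⟨P, c⟩ : Idx (Res M) G)) (hψ : PairOf p ψ (⟨P, c⟩ : Idx (Res M) G))
  (hab : ∀ x ∈ P, ∀ y ∈ P, x * y = y * x)
  (hfree : ∀ x ∈ stab (⟨P, c⟩ : Idx (Res M) G), ∀ u ∈ P, u ≠ 1 → x * u = u * x →
    x ∈ Subgroup.centralizer (P : Set G))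

include hM htop hψ hab hfree

set_option maxHeartbeats 1000000 in
/-- **The counts.** -/
theorem counts (hne : P ≠ ⊥) :
    ∃ m : ℕ, 0 < m ∧
      Nat.card (autHom (⟨P, c⟩ : Idx (Res M) G)).range * m + 1 = Nat.card P ∧
      Nat.card (toSet ψ) = Cfsg.blockRank p (toSet ψ) + m ∧
      Nat.card (toSet ψ) ≤ Nat.card (autHom (⟨P, c⟩ : Idx (Res M) G)).range + m ∧
      (Nat.card (autHom (⟨P, c⟩ : Idx (Res M) G)).range ≤ 3 →
        Nat.card (toSet ψ) = Nat.card (autHom (⟨P, c⟩ : Idx (Res M) G)).range + m) := by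
  classical
  letI : CommGroup P :=
    { (inferInstance : Group P) with mul_comm := fun a b => Subtype.ext (hab a a.2 b b.2) }
  haveI := Fintype.ofFinite P
  haveI := Fintype.ofFinite (Cfsg.IrrCharacter G)
  set B := toSet ψ with hBdef
  haveI := Fintype.ofFinite B
  have hB : Cfsg.IsPBlock M B := isPBlock_toSet ψ
  have hblk : ∀ {χ : Cfsg.IrrCharacter G}, χ ∈ B → blkOf M χ = ψ := fun h => mem_toSet.mp h
  haveI : Nontrivial P := (Subgroup.nontrivial_iff_ne_bot P).mpr hne
  have hq1 : 1 < Nat.card P := Finite.one_lt_card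
  obtain ⟨R, g, hR, hh, hg0, hgk, hinv, hint, hgram⟩ :=
    Data.exists_data hM htop hψ hab hfree
  set A := (autHom (⟨P, c⟩ : Idx (Res M) G)).range with hA
  set e : ℂ := (Nat.card A : ℂ) with he
  set q : ℂ := (Nat.card P : ℂ) with hq
  have he0 : e ≠ 0 := Nat.cast_ne_zero.mpr Nat.card_pos.ne'
  have hq0 : q ≠ 0 := Nat.cast_ne_zero.mpr Nat.card_pos.ne'
  have hfree' : ∀ u : P, u ≠ 1 → ∀ α ∈ A, α u = u → α = 1 := fun u hu α hα h =>
    Data.auto_free hfree hα hu h
  -- non-vanishing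
  have hd0 : ∀ χ ∈ B, ∀ v : P, v ≠ 1 → R χ v / (g v : ℂ) ≠ 0 := by
    intro χ hχ v hv h0
    obtain ⟨r, hr, hr'⟩ := exists_pos htop hψ hab hM (hblk hχ) v
    rw [hgram χ χ v hv, h0, zero_mul] at hr'
    exact hr.ne (by exact_mod_cast hr')
  obtain ⟨χ₀, hχ₀⟩ : ∃ χ, χ ∈ B := exists_mem ψ
  -- outside the block
  have hout : ∀ φ, φ ∉ B → ∀ v : P, v ≠ 1 → R φ v / (g v : ℂ) = 0 := by
    intro φ hφ v hv
    have hord : ∃ k : ℕ, orderOf (v : G) = p ^ k := by
      obtain ⟨k, hk⟩ := IsPGroup.iff_orderOf.mp htop.1 v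
      exact ⟨k, by rw [← hk, Subgroup.orderOf_coe]⟩
    have hz : phiSum p φ χ₀ (v : G) (blkAt (b := (⟨P, c⟩ : Idx (Res M) G)) htop.1 v) = 0 := by
      refine StarChar.NilpotentPairing.phiSum_eq_zero φ χ₀ hM hord _ fun h =>
        hφ (mem_toSet.mpr ?_)
      obtain ⟨ψ', -, huniq⟩ := existsUnique_pairOf
        (⟨Subgroup.zpowers (v : G), blkAt (b := (⟨P, c⟩ : Idx (Res M) G)) htop.1 v⟩ : Idx (Res M) G)
        (isPGroup_of_orderOf hord)
      exact (huniq _ h).trans (huniq _ ((pairOf_iff_of_le htop.1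
        (StarChar.NilpotentPairing.le_blkAt (b := (⟨P, c⟩ : Idx (Res M) G)) htop.1 v) _).mpr hψ)).symm
    have h1 := hgram φ χ₀ v hv
    rw [gram, hz, mul_zero, mul_zero, eq_comm, mul_eq_zero] at h1
    exact h1.resolve_right fun h => hd0 χ₀ hχ₀ v hv (star_eq_zero.mp h)
  -- the star products of the orbits
  let ζ : P → P → ℂ := fun v u => if ∃ α ∈ A, α v = u then 1 else 0
  have hζ : ∀ v, Inv (⟨P, c⟩ : Idx (Res M) G) (ζ v) := by
    intro v α hα u
    refine if_congr ⟨?_, ?_⟩ rfl rfl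
    · rintro ⟨β, hβ, hβv⟩
      exact ⟨α⁻¹ * β, mul_mem (inv_mem hα) hβ, by
        rw [MulAut.mul_apply, hβv]
        exact MulEquiv.symm_apply_apply α u⟩
    · rintro ⟨β, hβ, hβv⟩
      exact ⟨α * β, mul_mem hα hβ, by rw [MulAut.mul_apply, hβv]⟩
  let Θ : P → G → ℂ := fun v => starFn χ₀ (fz p (⟨P, c⟩ : Idx (Res M) G) (ζ v)) p
  let C : P → ℂ := fun v => ((Finset.univ.filter fun u : P => ∃ α ∈ A, α v = u).card : ℂ)
  have hC : ∀ v, C v ≠ 0 := fun v => by
    refine Nat.cast_ne_zero.mpr (Finset.card_ne_zero.mpr ⟨v, Finset.mem_filter.mpr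
      ⟨Finset.mem_univ _, 1, one_mem _, rfl⟩⟩)
  have hΘ : ∀ v : P, v ≠ 1 → ∀ φ : Cfsg.IrrCharacter G,
      e * q * Cfsg.classInner (Θ v) (φ : G → ℂ) =
        C v * ((R χ₀ v / (g v : ℂ)) * conj (R φ v / (g v : ℂ))) := by
    intro v hv φ
    have h := classInner_star_gram htop hψ hab hM (hblk hχ₀) φ (hζ v) inv_one
    rw [star_const] at h
    refine h.trans ?_
    rw [Finset.sum_congr rfl fun u _ => show
      gram (b := (⟨P, c⟩ : Idx (Res M) G)) htop χ₀ φ u * (ζ v u * conj ((1 : P → ℂ) u)) =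
        if ∃ α ∈ A, α v = u then gram (b := (⟨P, c⟩ : Idx (Res M) G)) htop χ₀ φ v else 0 by
      simp only [ζ, Pi.one_apply, map_one, mul_one]
      split_ifs with hu
      · obtain ⟨α, hα, rfl⟩ := hu
        rw [mul_one, gram_inv htop hab χ₀ φ α hα v]
      · rw [mul_zero], Finset.sum_ite, Finset.sum_const_zero, add_zero, Finset.sum_const,
      nsmul_eq_mul, hgram χ₀ φ v hv]
  have hsub : ∀ f : Cfsg.IrrCharacter G → ℂ, (∀ φ, φ ∉ B → f φ = 0) →
      ∑ χ : B, f χ.1 = ∑ φ, f φ := fun f hf => by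
    rw [← Finset.sum_subtype (bset B) (fun χ => mem_bset) f]
    exact Finset.sum_subset (Finset.subset_univ _) fun φ _ h => hf φ fun h' => h (mem_bset.mpr h')
  have horth : ∀ v v' : P, v ≠ 1 → v' ≠ 1 → (∀ α ∈ A, α v ≠ v') →
      ∑ χ : B, conj (R χ.1 v / (g v : ℂ)) * (R χ.1 v' / (g v' : ℂ)) = 0 := by
    intro v v' hv hv' hvv
    rw [hsub (fun φ => conj (R φ v / (g v : ℂ)) * (R φ v' / (g v' : ℂ)))
      fun φ hφ => by rw [hout φ hφ v' hv', mul_zero]]
    have h0 := classInner_star_gram htop hψ hab hM (hblk hχ₀) χ₀ (hζ v) (hζ v')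
    rw [Finset.sum_eq_zero fun u _ => ?_] at h0
    swap
    · simp only [ζ]
      split_ifs with h1 h2
      · obtain ⟨α, hα, hαv⟩ := h1
        obtain ⟨β, hβ, hβv⟩ := h2
        refine absurd ?_ (hvv (β⁻¹ * α) (mul_mem (inv_mem hβ) hα))
        rw [MulAut.mul_apply, hαv, ← hβv]
        exact MulEquiv.symm_apply_apply β v'
      all_goals simp
    have h1 : Cfsg.classInner (Θ v) (Θ v') = 0 :=
      (mul_eq_zero.mp h0).resolve_left (mul_ne_zero he0 hq0)
    rw [classInner_eq_sum (star_classFunction _ _ (fz_isInv htop hψ hab (hζ v)))] at h1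
    have h2 : (C v * (R χ₀ v / (g v : ℂ))) * conj (C v' * (R χ₀ v' / (g v' : ℂ))) *
        ∑ φ, conj (R φ v / (g v : ℂ)) * (R φ v' / (g v' : ℂ)) = 0 := by
      rw [Finset.mul_sum]
      calc _ = ∑ φ : Cfsg.IrrCharacter G, (e * q) ^ 2 *
            (Cfsg.classInner (Θ v) (φ : G → ℂ) *
              conj (Cfsg.classInner (Θ v') (φ : G → ℂ))) := by
            refine Finset.sum_congr rfl fun φ _ => ?_
            have hconj : conj (e * q) = e * q := by
              rw [he, hq, map_mul, Complex.conj_natCast, Complex.conj_natCast]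
            rw [show (e * q) ^ 2 * (Cfsg.classInner (Θ v) (φ : G → ℂ) *
                conj (Cfsg.classInner (Θ v') (φ : G → ℂ))) =
              (e * q * Cfsg.classInner (Θ v) (φ : G → ℂ)) *
                conj (e * q * Cfsg.classInner (Θ v') (φ : G → ℂ)) by
              rw [map_mul, hconj]; ring, hΘ v hv φ, hΘ v' hv' φ]
            simp only [map_mul, Complex.conj_conj]
            ring
        _ = 0 := by rw [← Finset.mul_sum, h1, mul_zero]
    have hne0 : (C v * (R χ₀ v / (g v : ℂ))) * conj (C v' * (R χ₀ v' / (g v' : ℂ))) ≠ 0 :=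
      mul_ne_zero (mul_ne_zero (hC v) (hd0 _ hχ₀ v hv))
        ((map_ne_zero _).mpr (mul_ne_zero (hC v') (hd0 _ hχ₀ v' hv')))
    exact (mul_eq_zero.mp h2).resolve_left hne0
  have hnorm : ∀ v : P, v ≠ 1 →
      ∑ χ : B, conj (R χ.1 v / (g v : ℂ)) * (R χ.1 v / (g v : ℂ)) = (Nat.card P : ℂ) := by
    intro v hv
    rw [← Finset.sum_subtype (bset B) (fun χ => mem_bset)
      (fun φ => conj (R φ v / (g v : ℂ)) * (R φ v / (g v : ℂ)))]
    refine Eq.trans (Finset.sum_congr rfl fun φ _ => ?_)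
      (sum_gram htop hψ hab hM v (hfree' v hv))
    rw [hgram φ φ v hv, mul_comm]
  obtain ⟨J, hJ, co, hcard, hoff, hdiag, hcov⟩ := exists_vectors (p := p) htop.1 A
    (fun α hα u hu h => hfree' u hu α hα h) (fun χ : B => R χ.1) g (fun χ => hR χ.1) hh hg0 hgk
    (fun α hα v hv => ⟨(hinv α hα v hv).1, fun χ => (hinv α hα v hv).2 χ.1⟩)
    (fun χ v hv => hint χ.1 v hv) horth hnorm (fun χ v hv => hd0 χ.1 χ.2 v hv) hq1
  replace hcard : Nat.card A * Fintype.card J + 1 = Nat.card P := hcard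
  have hm : 0 < Fintype.card J := by
    rcases Nat.eq_zero_or_pos (Fintype.card J) with h | h
    · rw [h, Nat.mul_zero] at hcard
      omega
    · exact h
  -- the trace
  have hkl : Nat.card B = Cfsg.blockRank p B + Fintype.card J := by
    have h1 : ∑ χ ∈ bset B, ∑ u, gram (b := (⟨P, c⟩ : Idx (Res M) G)) htop χ χ u =
        e * q * Nat.card B := by
      rw [Finset.sum_congr rfl fun χ hχ => by
        rw [sum_gram_eq htop hψ hab hM (hblk (mem_bset.mp hχ)) χ, classInner_self_irr, mul_one],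
        Finset.sum_const, card_bset, nsmul_eq_mul]
      ring
    rw [Finset.sum_comm, ← Finset.add_sum_erase _ _ (Finset.mem_univ (1 : P)),
      Finset.sum_congr rfl fun u hu => sum_gram htop hψ hab hM u
        (hfree' u (Finset.mem_erase.mp hu).1),
      Finset.sum_const, Finset.card_erase_of_mem (Finset.mem_univ _), Finset.card_univ,
      nsmul_eq_mul,
      Finset.sum_congr rfl fun χ hχ => gram_one htop hψ hab hM (hblk (mem_bset.mp hχ)) χ,
      ← Finset.sum_div, ← Finset.mul_sum, ← Int.cast_sum, sum_contribN_self hM hB] at h1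
    push_cast at h1
    rw [← Nat.card_eq_fintype_card, Nat.cast_sub (Nat.card_pos : 0 < Nat.card P), mul_div_assoc,
      mul_div_cancel_left₀ _
        (pow_ne_zero _ (Nat.cast_ne_zero.mpr (Fact.out : p.Prime).ne_zero))] at h1
    have h2 : e * (Fintype.card J : ℂ) + 1 = q := by
      rw [he, hq]
      exact_mod_cast hcard
    have h3 : e * q * (Nat.card B : ℂ) =
        e * q * ((Cfsg.blockRank p B : ℂ) + (Fintype.card J : ℂ)) := by
      push_cast at h1
      linear_combination -h1 - q * h2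
    exact_mod_cast mul_left_cancel₀ (mul_ne_zero he0 hq0) h3
  have hl : 1 ≤ Cfsg.blockRank p B := BrauerPairs.RankAbelian.one_le_blockRank hM hB
  haveI : Nonempty J := Fintype.card_pos_iff.mp hm
  have hkc : Nat.card B = Fintype.card B := Nat.card_eq_fintype_card
  have hle : Nat.card B ≤ Nat.card A + Fintype.card J := by
    rw [hkc]
    exact Combi.card_le hdiag hoff hcov
  refine ⟨Fintype.card J, hm, hcard, hkl, hle, fun h3 => ?_⟩
  rcases subsingleton_or_nontrivial J with hJ1 | hJ1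
  · have h1 : Fintype.card J = 1 := le_antisymm (Fintype.card_le_one_iff_subsingleton.mpr hJ1) hm
    rw [hkc, h1]
    exact Combi.card_eq_of_unique h3 hdiag hcov (by omega)
  · rcases Combi.card_eq_or h3 hdiag hoff hcov with h | ⟨h, h3m⟩
    · rwa [hkc]
    by_contra hne'
    have hlt : Cfsg.blockRank p B < Nat.card A := by omega
    obtain ⟨j, hj⟩ := (IsPGroup.iff_card (p := p)).mp htop.1
    have hprime : (Nat.card P).Prime := by
      obtain h7 | h10 | h13 :
          Nat.card P = 7 ∨ Nat.card P = 10 ∨ Nat.card P = 13 := by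
        have hm4 : Fintype.card J ≤ 4 := by omega
        have he2 : 2 ≤ Nat.card A := by omega
        interval_cases hA' : Nat.card A <;> interval_cases hJ' : Fintype.card J <;>
          omega
      · rw [h7]; norm_num
      · rw [h10] at hj
        have hp : p.Prime := Fact.out
        have h2 := (Nat.prime_dvd_prime_iff_eq Nat.prime_two hp).mp
          (Nat.prime_two.dvd_of_dvd_pow (hj ▸ by norm_num : 2 ∣ p ^ j))
        have h5 := (Nat.prime_dvd_prime_iff_eq Nat.prime_five hp).mp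
          (Nat.prime_five.dvd_of_dvd_pow (hj ▸ by norm_num : 5 ∣ p ^ j))
        omega
      · rw [h13]; norm_num
    haveI : Fact (Nat.card P).Prime := ⟨hprime⟩
    have hcyc : IsCyclic P := isCyclic_of_prime_card rfl
    obtain ⟨z, hz⟩ := CyclicBlocks.Local.exists_cyc htop hψ hcyc hne
    have h4 : C[P].relIndex (stab (⟨P, c⟩ : Idx (Res M) G)) ≤ Cfsg.blockRank p B :=
      CyclicBlocks.Rank.le_blockRank hM hz
    rw [← card_autHom_range, ← hA] at h4
    omega

end Cfsg.Agent.Lib.FreeAbelian.Block
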