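import Cfsg.Agent.Lib.FreeAbelian.Sign
import Cfsg.Agent.Lib.Chars82.FieldOfValues
import Cfsg.Agent.Lib.Blocks.HeightZeroValue

/-!
# Galois equivariant functions on an abelian `p`-group

`|D| • w` is a generalized character when `w` is an equivariant function with values algebraic
integers (`card_smul_mem`).  A generalized character whose absolute values `m` are prime to `p` and
constant on the generators of each cyclic subgroup gives, after multiplication by a linear
character, an integer valued generalized character `± m`, constant modulo `p`, and modulo `4` for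
`p = 2` (`exists_signed`).
-/

set_option autoImplicit false
set_option linter.style.haveILetI false
set_option linter.unusedSectionVars false

namespace Cfsg.Agent.Lib.FreeAbelian

open Cfsg.Agent.Lib.Characters.Basic Cfsg.Agent.Lib.BC78.Galois
open scoped ComplexConjugate

universe u

variable {D : Type u} [CommGroup D] [Finite D]

/-- An automorphism acting by the power `k` on the roots of unity of order dividing `q`. -/
def Act (q : ℕ) (σ : Alg ≃ₐ[ℚ] Alg) (k : ℕ) : Prop :=
  k.Coprime q ∧ ∀ z : ℂ, z ^ q = 1 → ∀ hm : z ∈ Alg, ((σ ⟨z, hm⟩ : Alg) : ℂ) = z ^ k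

theorem exists_act (σ : Alg ≃ₐ[ℚ] Alg) {q : ℕ} (hq : q ≠ 0) : ∃ k, Act q σ k := exists_exponent σ hq

theorem exists_aut_act {q k : ℕ} (hq : 0 < q) (hk : k.Coprime q) : ∃ σ, Act q σ k := by
  haveI : NeZero q := ⟨hq.ne'⟩
  have hζ := Complex.isPrimitiveRoot_exp q hq.ne'
  set ζ := Complex.exp (2 * Real.pi * Complex.I / q)
  have hζm : ζ ∈ Alg :=
    Chars82.FieldOfValues.mem_alg_of_pow_eq_one hq hζ.pow_eq_one
  obtain ⟨σ, hσ⟩ := Chars82.FieldOfValues.exists_aut_pow hq hk hζ hζm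
  refine ⟨σ, hk, fun z hz hm => ?_⟩
  obtain ⟨i, -, rfl⟩ := hζ.eq_pow_of_pow_eq_one hz
  rw [show (⟨ζ ^ i, hm⟩ : Alg) = (⟨ζ, hζm⟩ : Alg) ^ i from Subtype.ext (by simp), map_pow]
  push_cast
  rw [hσ, ← pow_mul, ← pow_mul, mul_comm]

/-- Algebraic integer values, moved by the automorphisms as the powers of the argument. -/
structure Equi (w : D → ℂ) : Prop where
  int : ∀ z, IsIntegral ℤ (w z)
  gal : ∀ σ k, Act (Nat.card D) σ k → ∀ (z : D) (hm : w z ∈ Alg),
    ((σ ⟨w z, hm⟩ : Alg) : ℂ) = w (z ^ k)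

theorem Equi.mul {v w : D → ℂ} (hv : Equi v) (hw : Equi w) : Equi (v * w) := by
  refine ⟨fun z => (hv.int z).mul (hw.int z), fun σ k h z hm => ?_⟩
  have e : (⟨(v * w) z, hm⟩ : Alg) =
      ⟨v z, mem_alg_of_isIntegral (hv.int z)⟩ * ⟨w z, mem_alg_of_isIntegral (hw.int z)⟩ := rfl
  rw [e, map_mul]
  push_cast
  rw [hv.gal σ k h, hw.gal σ k h]
  rfl

theorem classFun (f : D → ℂ) : Cfsg.IsClassFunction D f := fun g h => by
  rw [mul_comm h g, mul_inv_cancel_right]

/-- A linear character as a homomorphism. -/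
noncomputable def lin (l : Cfsg.IrrCharacter D) : D →* ℂ where
  toFun := (l : D → ℂ)
  map_one' := deg_one mul_comm l
  map_mul' := H80.LinearChar.map_mul_of_deg_one l (deg_one mul_comm l)

theorem lin_apply (l : Cfsg.IrrCharacter D) (z : D) : lin l z = (l : D → ℂ) z := rfl

theorem hom_pow_card (L : D →* ℂ) (z : D) : L z ^ Nat.card D = 1 := by
  rw [← map_pow, pow_card_eq_one', map_one]

theorem hom_inv (L : D →* ℂ) (z : D) : L z⁻¹ = conj (L z) :=
  apply_inv (Brauer.Elementary.isCharacter_hom L) z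

theorem equi_hom (L : D →* ℂ) : Equi (L : D → ℂ) := by
  refine ⟨fun z => isIntegral_apply (Brauer.Elementary.isCharacter_hom L) z, fun σ k h z hm => ?_⟩
  rw [h.2 _ (hom_pow_card L z) hm, map_pow]

/-- The expansion of a generalized character. -/
theorem exists_comb {f : D → ℂ} [Fintype (Cfsg.IrrCharacter D)] (hf : f ∈ vchar D) :
    ∃ n : Cfsg.IrrCharacter D → ℤ, ∀ z, f z = ∑ l, (n l : ℂ) * (l : D → ℂ) z := by
  letI := Fintype.ofFinite D
  obtain ⟨a, b, ha, hb, hab⟩ := hf
  choose i hi using fun l : Cfsg.IrrCharacter D => exists_classInner_nat ha (isCharacter_irr l)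
  choose j hj using fun l : Cfsg.IrrCharacter D => exists_classInner_nat hb (isCharacter_irr l)
  refine ⟨fun l => (i l : ℤ) - j l, fun z => ?_⟩
  conv_lhs => rw [Characters.Complete.classFunction_eq_sum (classFun f)]
  rw [Finset.sum_apply]
  refine Finset.sum_congr rfl fun l _ => ?_
  rw [Pi.smul_apply, smul_eq_mul, hab, Induced.Basic.classInner_sub_left, hi, hj]
  push_cast
  rfl

theorem equi_of_mem {f : D → ℂ} (hf : f ∈ vchar D) : Equi f := by
  haveI := Fintype.ofFinite (Cfsg.IrrCharacter D)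
  obtain ⟨n, hn⟩ := exists_comb hf
  have hli : ∀ (l : Cfsg.IrrCharacter D) (z : D), IsIntegral ℤ ((l : D → ℂ) z) := fun l z =>
    isIntegral_apply (isCharacter_irr l) z
  refine ⟨fun z => ?_, fun σ k h z hm => ?_⟩
  · rw [hn]
    exact IsIntegral.sum _ fun l _ => (isIntegral_algebraMap (x := n l)).mul (hli l z)
  · have e : (⟨f z, hm⟩ : Alg) =
        ∑ l, (n l : Alg) * ⟨(l : D → ℂ) z, mem_alg_of_isIntegral (hli l z)⟩ := by
      apply Subtype.ext
      push_cast
      exact hn z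
    rw [e, map_sum]
    simp only [map_mul, map_intCast]
    push_cast
    rw [hn]
    exact Finset.sum_congr rfl fun l _ => congrArg _ ((equi_hom (lin l)).gal σ k h z _)

/-- The order times an equivariant function is a generalized character. -/
theorem card_smul_mem {w : D → ℂ} (hw : Equi w) : (fun z => (Nat.card D : ℂ) * w z) ∈ vchar D := by
  classical
  letI := Fintype.ofFinite D
  haveI := Fintype.ofFinite (Cfsg.IrrCharacter D)
  have hn : ∀ l : Cfsg.IrrCharacter D, ∃ n : ℤ,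
      Cfsg.classInner (fun z => (Nat.card D : ℂ) * w z) (l : D → ℂ) = n := by
    intro l
    have e : Cfsg.classInner (fun z => (Nat.card D : ℂ) * w z) (l : D → ℂ) =
        ∑ z, w z * lin l z⁻¹ := by
      rw [Cfsg.classInner, Finset.mul_sum]
      refine Finset.sum_congr rfl fun z _ => ?_
      rw [hom_inv, lin_apply, ← mul_assoc, ← mul_assoc,
        inv_mul_cancel₀ (Nat.cast_ne_zero.mpr Nat.card_pos.ne'), one_mul]
    rw [e]
    have hint : IsIntegral ℤ (∑ z, w z * lin l z⁻¹) :=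
      IsIntegral.sum _ fun z _ => (hw.int z).mul ((equi_hom (lin l)).int _)
    obtain ⟨m, hm⟩ := exists_int_of_fixed hint fun σ => by
      obtain ⟨k, hk⟩ := exists_act σ (q := Nat.card D) Nat.card_pos.ne'
      have e1 : (⟨_, mem_alg_of_isIntegral hint⟩ : Alg) = ∑ z,
          (⟨w z, mem_alg_of_isIntegral (hw.int z)⟩ : Alg) *
            ⟨lin l z⁻¹, mem_alg_of_isIntegral ((equi_hom (lin l)).int _)⟩ := by
        apply Subtype.ext
        push_cast
        rfl
      rw [e1, map_sum]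
      simp only [map_mul]
      push_cast
      refine Fintype.sum_equiv (powCoprime hk.1.symm) _ _ fun z => ?_
      rw [hw.gal σ k hk, (equi_hom (lin l)).gal σ k hk, inv_pow]
      rfl
    exact ⟨m, hm.symm⟩
  choose n hn using hn
  have e : (fun z => (Nat.card D : ℂ) * w z) =
      fun z => ∑ l : Cfsg.IrrCharacter D, (n l : ℂ) * (l : D → ℂ) z := by
    funext z
    refine (congrFun (Characters.Complete.classFunction_eq_sum
      (classFun (fun z => (Nat.card D : ℂ) * w z))) z).trans ?_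
    rw [Finset.sum_apply]
    exact Finset.sum_congr rfl fun l _ => by rw [Pi.smul_apply, smul_eq_mul, hn]
  rw [e]
  exact BC77.Reg.isGeneralized_intComb n

/-- Integer valued generalized characters are constant on generators. -/
theorem int_pow_eq {f : D → ℤ} (hf : (fun z => (f z : ℂ)) ∈ vchar D) (z : D) {k : ℕ}
    (hk : k.Coprime (Nat.card D)) : f (z ^ k) = f z := by
  obtain ⟨σ, hσ⟩ := exists_aut_act Nat.card_pos hk
  have h := (equi_of_mem hf).gal σ k hσ z (mem_alg_of_isIntegral ((equi_of_mem hf).int z))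
  rw [show (⟨((f z : ℤ) : ℂ), mem_alg_of_isIntegral ((equi_of_mem hf).int z)⟩ : Alg) =
    ((f z : ℤ) : Alg) from Subtype.ext (by push_cast; rfl), map_intCast] at h
  push_cast at h
  exact_mod_cast h.symm

theorem equi_int {f : D → ℤ} (hf : ∀ z k, k.Coprime (Nat.card D) → f (z ^ k) = f z) :
    Equi fun z => (f z : ℂ) := by
  refine ⟨fun z => isIntegral_algebraMap (x := f z), fun σ k h z hm => ?_⟩
  rw [show (⟨((f z : ℤ) : ℂ), hm⟩ : Alg) = ((f z : ℤ) : Alg) from Subtype.ext (by push_cast; rfl),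
    map_intCast]
  push_cast
  rw [hf z k h.1]

/-- A quotient by an integer valued function. -/
theorem Equi.of_mul {t : D → ℂ} {f : D → ℤ} (ht : ∀ z, IsIntegral ℤ (t z))
    (hf : ∀ z k, k.Coprime (Nat.card D) → f (z ^ k) = f z) (h0 : ∀ z, f z ≠ 0)
    (h : Equi fun z => t z * (f z : ℂ)) : Equi t := by
  refine ⟨ht, fun σ k hk z hm => ?_⟩
  have h1 := h.gal σ k hk z (mem_alg_of_isIntegral (h.int z))
  rw [show (⟨t z * ((f z : ℤ) : ℂ), mem_alg_of_isIntegral (h.int z)⟩ : Alg) =
    ⟨t z, hm⟩ * ((f z : ℤ) : Alg) from Subtype.ext (by push_cast; rfl), map_mul, map_intCast] at h1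
  push_cast at h1
  rw [hf z k hk.1] at h1
  exact mul_right_cancel₀ (Int.cast_ne_zero.mpr (h0 z)) h1

variable {p : ℕ} [Fact p.Prime]

theorem modEq_pow_totient (hp : IsPGroup p D) {x : ℤ} (hx : ¬ (p : ℤ) ∣ x) :
    ((Nat.card D : ℕ) : ℤ) ∣ x ^ Nat.totient (Nat.card D) - 1 := by
  obtain ⟨a, ha⟩ := IsPGroup.iff_card.mp hp
  have hc : IsCoprime x ((p : ℤ) ^ a) :=
    IsCoprime.pow_right ((Nat.prime_iff_prime_int.mp Fact.out).coprime_iff_not_dvd.mpr hx).symm
  have hu : IsUnit (x : ZMod (Nat.card D)) := by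
    rw [ha]
    obtain ⟨u, v, huv⟩ := hc
    refine IsUnit.of_mul_eq_one (u : ZMod (p ^ a)) ?_
    have h1 := congrArg (fun y : ℤ => (y : ZMod (p ^ a))) huv
    push_cast at h1
    rw [show ((p : ZMod (p ^ a))) ^ a = 0 by rw [← Nat.cast_pow, ZMod.natCast_self], mul_zero,
      add_zero, mul_comm] at h1
    exact h1
  rw [← ZMod.intCast_zmod_eq_zero_iff_dvd]
  push_cast
  rw [sub_eq_zero]
  obtain ⟨w, hw⟩ := hu
  rw [← hw, ← Units.val_pow_eq_pow_val, ZMod.pow_totient, Units.val_one]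

/-- Division by an integer valued generalized character prime to `p`. -/
theorem mem_of_mul (hp : IsPGroup p D) {w : D → ℂ} (hw : Equi w) {s : D → ℤ}
    (hs : (fun z => (s z : ℂ)) ∈ vchar D) (hs0 : ∀ z, ¬ (p : ℤ) ∣ s z)
    (h : (fun z => w z * (s z : ℂ)) ∈ vchar D) : w ∈ vchar D := by
  set N := Nat.totient (Nat.card D) with hN
  have hN0 : 0 < N := Nat.totient_pos.mpr Nat.card_pos
  choose u hu using fun z => modEq_pow_totient hp (hs0 z)
  have hu' : ∀ z k, k.Coprime (Nat.card D) → u (z ^ k) = u z := fun z k hk => by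
    have h1 := hu (z ^ k)
    rw [int_pow_eq hs z hk, hu z] at h1
    exact (mul_left_cancel₀ (Nat.cast_ne_zero.mpr Nat.card_pos.ne') h1).symm
  have e : w = (fun z => w z * (s z : ℂ)) * (fun z => (s z : ℂ)) ^ (N - 1) -
      fun z => (Nat.card D : ℂ) * (w * fun z => (u z : ℂ)) z := by
    funext z
    simp only [Pi.sub_apply, Pi.mul_apply, Pi.pow_apply]
    have h1 : ((s z : ℂ)) ^ N - 1 = (Nat.card D : ℂ) * (u z : ℂ) := by exact_mod_cast hu z
    have h2 : (s z : ℂ) * (s z : ℂ) ^ (N - 1) = (s z : ℂ) ^ N := by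
      rw [← pow_succ', Nat.sub_add_cancel hN0]
    linear_combination -(w z) * h1 - w z * h2
  rw [e]
  exact sub_mem (mul_mem h (pow_mem hs _)) (card_smul_mem (hw.mul (equi_int hu')))

/-- A generalized character of modulus one with value one at the identity is linear. -/
theorem exists_linear {u : D → ℂ} (hu : u ∈ vchar D) (h : ∀ z, u z * conj (u z) = 1)
    (h1 : u 1 = 1) : ∃ L : D →* ℂ, ∀ z, L z = u z := by
  letI := Fintype.ofFinite D
  have hn : Cfsg.classInner u u = 1 := by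
    rw [Cfsg.classInner, Finset.sum_congr rfl fun z _ => h z, Finset.sum_const, Finset.card_univ,
      nsmul_one, ← Nat.card_eq_fintype_card, inv_mul_cancel₀ (Nat.cast_ne_zero.mpr Nat.card_pos.ne')]
  exact ⟨lin ⟨u, BC78.PowChar.isIrr_of_norm_one hu hn (by rw [h1]; simp)⟩, fun z => rfl⟩

theorem comp_inv_mem {f : D → ℂ} (hf : f ∈ vchar D) : (fun z => f z⁻¹) ∈ vchar D := by
  obtain ⟨a, b, ha, hb, rfl⟩ := hf
  exact ⟨_, _, isCharacter_comp (MulEquiv.inv D).toMonoidHom ha,
    isCharacter_comp (MulEquiv.inv D).toMonoidHom hb, rfl⟩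

theorem conj_vchar {f : D → ℂ} (hf : f ∈ vchar D) (z : D) : f z⁻¹ = conj (f z) := by
  obtain ⟨a, b, ha, hb, rfl⟩ := hf
  rw [Pi.sub_apply, Pi.sub_apply, apply_inv ha, apply_inv hb, map_sub]

/-- A square root of a linear character killing the involutions. -/
theorem exists_sqrt (L : D →* ℂ) (h : ∀ z, z ^ 2 = 1 → L z = 1) :
    ∃ μ : D →* ℂ, ∀ z, μ z ^ 2 = L z := by
  have := Monoid.neZero_exponent_of_finite (G := D)
  let sq : D →* D := powMonoidHom 2
  let φ : sq.range →* ℂˣ := (QuotientGroup.lift sq.ker L.toHomUnits (fun z hz => by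
    rw [MonoidHom.mem_ker]
    exact Units.ext (h z hz))).comp (QuotientGroup.quotientKerEquivRange sq).symm.toMonoidHom
  obtain ⟨μ, hμ⟩ := MonoidHom.domRestrict_surjective ℂ sq.range φ
  refine ⟨(Units.coeHom ℂ).comp μ, fun z => ?_⟩
  have h1 := DFunLike.congr_fun hμ ⟨z ^ 2, z, rfl⟩
  rw [MonoidHom.domRestrictHom_apply, MonoidHom.domRestrict_apply] at h1
  show ((μ z : ℂˣ) : ℂ) ^ 2 = L z
  rw [← Units.val_pow_eq_pow_val, ← map_pow, h1]
  have h2 : (QuotientGroup.quotientKerEquivRange sq).symm ⟨z ^ 2, z, rfl⟩ =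
      QuotientGroup.mk z := by
    rw [MulEquiv.symm_apply_eq]
    rfl
  simp only [φ, MonoidHom.comp_apply, MulEquiv.coe_toMonoidHom, h2]
  rfl

/-- An integer valued generalized character is constant modulo `p`. -/
theorem dvd_sub {M : Ideal Cfsg.AlgInt} [M.IsMaximal] (hM : Cfsg.IsPModular p M) (hp : IsPGroup p D)
    {f : D → ℤ} (hf : (fun z => (f z : ℂ)) ∈ vchar D) (z : D) : (p : ℤ) ∣ f z - f 1 := by
  haveI := Fintype.ofFinite (Cfsg.IrrCharacter D)
  obtain ⟨n, hn⟩ := exists_comb hf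
  rw [← Blocks.memLocalIdeal_intCast_iff hM]
  have e : ((f z - f 1 : ℤ) : ℂ) =
      ∑ l : Cfsg.IrrCharacter D, (n l : ℂ) * ((l : D → ℂ) (z * 1) - (l : D → ℂ) 1) := by
    rw [Int.cast_sub, hn z, hn 1, mul_one, ← Finset.sum_sub_distrib]
    exact Finset.sum_congr rfl fun l _ => by ring
  rw [e]
  exact Blocks.memLocalIdeal_sum _ fun l _ => Blocks.memLocalIdeal_mul_left
    (Blocks.mem_localRing_of_isIntegral (isIntegral_algebraMap (x := n l)))
    (Blocks.memLocalIdeal_char_mul_sub hM l (Commute.one_right z)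
      (IsPGroup.iff_orderOf.mp hp z) (by rw [orderOf_one]; exact (Fact.out : p.Prime).not_dvd_one))

/-- **The signed absolute value.** -/
theorem exists_signed {M : Ideal Cfsg.AlgInt} [M.IsMaximal] (hM : Cfsg.IsPModular p M)
    (hp : IsPGroup p D) {r t : D → ℂ} (hr : r ∈ vchar D) {m : D → ℕ} (hm : ∀ z, ¬ p ∣ m z)
    (hmk : ∀ z k, k.Coprime (Nat.card D) → m (z ^ k) = m z) (hrm : ∀ z, r z = t z * (m z : ℂ))
    (ht : ∀ z, t z * conj (t z) = 1) (hint : ∀ z, IsIntegral ℤ (t z)) (h1 : t 1 = 1) :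
    ∃ f : D → ℤ, (fun z => (f z : ℂ)) ∈ vchar D ∧ (∀ z, f z = m z ∨ f z = -(m z : ℤ)) ∧
      (∀ z, (p : ℤ) ∣ f z - m 1) ∧ (p = 2 → ∀ z, (4 : ℤ) ∣ f z - m 1) := by
  have hm0 : ∀ z, ((m z : ℤ)) ≠ 0 := fun z h => hm z (by rw [Int.natCast_eq_zero.mp h]; exact dvd_zero p)
  have hte : Equi t := Equi.of_mul hint (f := fun z => (m z : ℤ))
    (fun z k hk => by rw [hmk z k hk]) hm0 (by
      have e : (fun z => t z * (((m z : ℤ)) : ℂ)) = r := funext fun z => by rw [hrm]; push_cast; ring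
      rw [e]; exact equi_of_mem hr)
  -- the square of the modulus
  have hsq : (fun z => ((((m z : ℤ) ^ 2 : ℤ)) : ℂ)) ∈ vchar D := by
    have e : (fun z => ((((m z : ℤ) ^ 2 : ℤ)) : ℂ)) = r * fun z => r z⁻¹ := funext fun z => by
      rw [Pi.mul_apply, conj_vchar hr, hrm, map_mul, Complex.conj_natCast]
      push_cast
      linear_combination -((m z : ℂ) ^ 2) * ht z
    rw [e]
    exact mul_mem hr (comp_inv_mem hr)
  have hp' : Prime (p : ℤ) := Nat.prime_iff_prime_int.mp Fact.out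
  have htt : (t * t) ∈ vchar D := mem_of_mul hp (hte.mul hte) hsq
    (fun z h => hm z (Int.natCast_dvd_natCast.mp (hp'.dvd_of_dvd_pow h))) (by
      have e : (fun z => (t * t) z * ((((m z : ℤ) ^ 2 : ℤ)) : ℂ)) = r * r := funext fun z => by
        rw [Pi.mul_apply, Pi.mul_apply, hrm]; push_cast; ring
      rw [e]; exact mul_mem hr hr)
  obtain ⟨L, hL⟩ := exists_linear htt (fun z => by
    rw [Pi.mul_apply, map_mul]; linear_combination (t z * conj (t z) + 1) * ht z) (by simp [h1])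
  obtain ⟨μ, hμ⟩ : ∃ μ : D →* ℂ, ∀ z, μ z ^ 2 = L z := by
    refine exists_sqrt L fun z hz => ?_
    rcases eq_or_ne z 1 with rfl | hz1
    · exact map_one L
    have heven : 2 ∣ Nat.card D := by
      rw [← orderOf_eq_prime hz hz1]
      exact orderOf_dvd_natCard z
    obtain ⟨m', hm'⟩ := exists_int_of_fixed (hint z) fun σ => by
      obtain ⟨k, hk⟩ := exists_act σ (q := Nat.card D) Nat.card_pos.ne'
      rw [hte.gal σ k hk]
      congr 1
      obtain ⟨i, rfl⟩ : Odd k := Nat.coprime_two_right.mp (hk.1.of_dvd_right heven)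
      rw [pow_succ, pow_mul, hz, one_pow, one_mul]
    have h2 := ht z
    rw [← hm', map_intCast] at h2
    rw [hL, Pi.mul_apply, ← hm']
    exact h2
  -- the integer valued product
  set f₀ : D → ℂ := fun z => μ z⁻¹ * r z with hf₀
  have hf₀m : f₀ ∈ vchar D :=
    mul_mem (comp_inv_mem (mem_of_isCharacter (Brauer.Elementary.isCharacter_hom μ))) hr
  have hval : ∀ z, μ z⁻¹ * t z = 1 ∨ μ z⁻¹ * t z = -1 := fun z => by
    refine mul_self_eq_one_iff.mp ?_
    have e : μ z⁻¹ ^ 2 * μ z ^ 2 = 1 := by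
      rw [← mul_pow, ← map_mul, inv_mul_cancel, map_one, one_pow]
    rw [hμ z, hL, Pi.mul_apply] at e
    linear_combination e
  have hex : ∀ z, ∃ x : ℤ, (x : ℂ) = f₀ z ∧ (x = m z ∨ x = -(m z : ℤ)) := fun z => by
    rcases hval z with h | h
    · refine ⟨m z, ?_, Or.inl rfl⟩
      show _ = μ z⁻¹ * r z
      rw [hrm, ← mul_assoc, h, one_mul, Int.cast_natCast]
    · refine ⟨-(m z : ℤ), ?_, Or.inr rfl⟩
      show _ = μ z⁻¹ * r z
      rw [hrm, ← mul_assoc, h, neg_one_mul, Int.cast_neg, Int.cast_natCast]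
  choose f hf hfm using hex
  have hfv : (fun z => (f z : ℂ)) ∈ vchar D := by
    rw [show (fun z => (f z : ℂ)) = f₀ from funext hf]; exact hf₀m
  have hf1 : f 1 = m 1 := by
    have h := hf 1
    rw [show f₀ 1 = μ 1⁻¹ * r 1 from rfl, inv_one, map_one, one_mul, hrm, h1, one_mul] at h
    exact_mod_cast h
  by_cases hp2 : p = 2
  · subst hp2
    obtain ⟨a, ha⟩ := IsPGroup.iff_card.mp hp
    have hN : ∀ z : D, z ^ 2 ^ (a + 1) = 1 := fun z => by
      rw [pow_succ, pow_mul, ← ha, pow_card_eq_one', one_pow]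
    have hodd : ∀ z, Odd (f z) := fun z => by
      have h : Odd (m z) := Nat.not_even_iff_odd.mp fun he => hm z (even_iff_two_dvd.mp he)
      rcases hfm z with e | e <;> rw [e] <;> simpa using h
    obtain ⟨κ, hκ, hκ4⟩ := exists_sign mul_comm hN f
      (fun z c hc => int_pow_eq hfv z (coprime_card_of_odd hN hc)) hfv hodd
    refine ⟨fun z => κ z * f z, ?_, fun z => ?_, fun z => ?_, fun _ z => hf1 ▸ hκ4 z⟩
    · have e : (fun z => ((κ z * f z : ℤ) : ℂ)) =
          (((Int.castRingHom ℂ).toMonoidHom.comp κ : D →* ℂ) : D → ℂ) * fun z => (f z : ℂ) :=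
        funext fun z => by simp
      rw [e]
      exact mul_mem (mem_of_isCharacter (Brauer.Elementary.isCharacter_hom _)) hfv
    · rcases hκ z with h | h <;> rcases hfm z with h' | h' <;> simp [h, h']
    · have h := hκ4 z
      rw [hf1] at h
      push_cast
      omega
  · exact ⟨f, hfv, hfm, fun z => hf1 ▸ dvd_sub hM hp hfv z, fun h => absurd h hp2⟩

end Cfsg.Agent.Lib.FreeAbelian
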