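import Cfsg.Agent.Lib.FreeAbelian.Unique
import Cfsg.Agent.Lib.FreeAbelian.Equivariant

/-!
# The coordinates of a block on the non-trivial elements of its defect group

For an abelian defect group with free inertial action: generalized characters `R χ` of the defect
group and an integer valued function `g`, prime to `p`, extending to a generalized character, such
that the quotient `d χ = R χ / g` is invariant, integral and `gram χ χ' = d χ * conj (d χ')` on the
non-trivial elements (`exists_data`).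
-/

set_option autoImplicit false
set_option linter.style.haveILetI false
set_option linter.unusedSectionVars false

namespace Cfsg.Agent.Lib.FreeAbelian.Data

open MonoidAlgebra
open scoped ComplexConjugate
open Cfsg.Agent.Lib.Blocks (localRing)
open Cfsg.Agent.Lib.BrauerMap.Basic
open Cfsg.Agent.Lib.BrauerPairs.Center Cfsg.Agent.Lib.BrauerPairs.Trunc
open Cfsg.Agent.Lib.BrauerPairs.Pairs Cfsg.Agent.Lib.BrauerPairs.Bridge
open Cfsg.Agent.Lib.BrauerPairs.Maximal Cfsg.Agent.Lib.BrauerPairs.Local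
open Cfsg.Agent.Lib.BrauerPairs.Fusion
open Cfsg.Agent.Lib.StarChar.Fixed Cfsg.Agent.Lib.StarChar.Theta
open Cfsg.Agent.Lib.StarChar.AbelianSection
open Cfsg.Agent.Lib.StarChar.NilpotentPairing (phiSum blkAt)
open Cfsg.Agent.Lib.Characters.Basic

universe u

attribute [local instance] Ideal.Quotient.field

variable {M : Ideal Cfsg.AlgInt} [M.IsMaximal] {p : ℕ} [Fact p.Prime] [CharP (Res M) p]
  {G : Type u} [Group G] [Fintype G]

local notation "C[" P "]" => Subgroup.centralizer ((P : Subgroup G) : Set G)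

variable {P : Subgroup G} {c : Blk (Res M) (Subgroup.centralizer (P : Set G))}

theorem free_of_ne_bot
    (hfree : ∀ x ∈ stab (⟨P, c⟩ : Idx (Res M) G), ∀ u ∈ P, u ≠ 1 → x * u = u * x → x ∈ C[P])
    {T : Subgroup G} (hT : T ≤ P) (hne : T ≠ ⊥) : Local.Free c T := by
  intro x hx hxT
  obtain ⟨u, hu, hu1⟩ := (Subgroup.ne_bot_iff_exists_ne_one.mp hne) |> fun ⟨a, ha⟩ =>
    (⟨(a : G), a.2, fun h => ha (Subtype.ext h)⟩ : ∃ u ∈ T, u ≠ 1)
  exact hfree x hx u (hT hu) hu1 (Subgroup.mem_centralizer_iff.mp hxT u hu).symm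

theorem auto_free
    (hfree : ∀ x ∈ stab (⟨P, c⟩ : Idx (Res M) G), ∀ u ∈ P, u ≠ 1 → x * u = u * x → x ∈ C[P])
    {α : MulAut P} (hα : α ∈ (autHom (⟨P, c⟩ : Idx (Res M) G)).range) {u : P} (hu : u ≠ 1)
    (h : α u = u) : α = 1 := by
  obtain ⟨x, rfl⟩ := hα
  have h1 : (x : G) * (u : G) * (x : G)⁻¹ = u := congrArg Subtype.val h
  have h2 := hfree x x.2 u u.2 (fun e => hu (Subtype.ext e)) (mul_inv_eq_iff_eq_mul.mp h1)
  have h3 : x ∈ (autHom (⟨P, c⟩ : Idx (Res M) G)).ker := by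
    rw [autHom_ker, Subgroup.mem_subgroupOf]
    exact h2
  exact h3

variable {ψ : Blk (Res M) G} (hM : Cfsg.IsPModular p M)
  (htop : Top p (⟨P, c⟩ : Idx (Res M) G)) (hψ : PairOf p ψ (⟨P, c⟩ : Idx (Res M) G))
  (hab : ∀ x ∈ P, ∀ y ∈ P, x * y = y * x)
  (hfree : ∀ x ∈ stab (⟨P, c⟩ : Idx (Res M) G), ∀ u ∈ P, u ≠ 1 → x * u = u * x →
    x ∈ Subgroup.centralizer (P : Set G))

include hM htop hψ hab hfree

/-- **The coordinates.** -/
theorem exists_data :
    ∃ (R : Cfsg.IrrCharacter G → P → ℂ) (g : P → ℤ),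
      (∀ χ, R χ ∈ vchar P) ∧
      (∃ h ∈ vchar P, ∀ v : P, v ≠ 1 → h v = (g v : ℂ)) ∧
      (∀ v : P, v ≠ 1 → ¬ (p : ℤ) ∣ g v) ∧
      (∀ (v : P) (k : ℕ), k.Coprime (Nat.card P) → v ≠ 1 → g (v ^ k) = g v) ∧
      (∀ α ∈ (autHom (⟨P, c⟩ : Idx (Res M) G)).range, ∀ v : P, v ≠ 1 →
        g (α v) = g v ∧ ∀ χ, R χ (α v) = R χ v) ∧
      (∀ χ (v : P), v ≠ 1 → IsIntegral ℤ (R χ v / (g v : ℂ))) ∧
      (∀ χ χ' (v : P), v ≠ 1 → gram (b := (⟨P, c⟩ : Idx (Res M) G)) htop χ χ' v =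
        (R χ v / (g v : ℂ)) * conj (R χ' v / (g v : ℂ))) := by
  classical
  letI : CommGroup P :=
    { (inferInstance : Group P) with mul_comm := fun a b => Subtype.ext (hab a a.2 b b.2) }
  have hPp : IsPGroup p P := htop.1
  obtain ⟨j, hj, hjc, hne, θ₀, hθ₀, u₀, hu₀, hpu₀⟩ := Prim.exists_prim hM htop hab
  obtain ⟨m, hm⟩ := Local.exists_mval hM htop hab hj
  have homP : Local.om c htop.1 hab (le_refl P) = c :=
    Prim.blkIn_centralizer htop.1 (Local.le_centralizer_sub hab le_rfl) (centralizer_anti le_rfl)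
  have hfP : Local.Free c P := fun x _ hx => hx
  have hmPθ : ∀ θ ∈ toSet c, tauBar θ 1 (br P j) = (m P : ℂ) := fun θ hθ =>
    hm P le_rfl hfP θ (by rw [homP]; exact hθ)
  have hmP : ¬ p ∣ m P := by
    have h := hmPθ θ₀ hθ₀
    rw [hu₀, Nat.cast_inj] at h
    exact h ▸ hpu₀
  -- the rows
  have hbot : ∀ T : Subgroup G, T ≤ P → T ≠ ⊥ → Local.Free c T := fun T hT hne =>
    free_of_ne_bot hfree hT hne
  have hsqc : ∀ Q : Subgroup G, Q ≤ P → Q ≠ ⊥ → ∀ z : P,
      (p : ℤ) ∣ (m (Q ⊔ Subgroup.zpowers (z : G)) : ℤ) ^ 2 - (m Q : ℤ) ^ 2 := by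
    intro Q hQ hQne z
    obtain ⟨r, t, hr, hrt, ht, -, hr1⟩ :=
      Local.exists_row hM htop hab hj hjc hne hm hQ (hbot Q hQ hQne)
    have hrm := mem_of_isCharacter hr
    have e : (fun z : P => ((((m (Q ⊔ Subgroup.zpowers (z : G)) : ℤ) ^ 2 : ℤ)) : ℂ)) =
        r * fun z => r z⁻¹ := funext fun z => by
      rw [Pi.mul_apply, conj_vchar hrm, hrt, map_mul, Complex.conj_natCast]
      push_cast
      linear_combination -((m (Q ⊔ Subgroup.zpowers (z : G)) : ℂ) ^ 2) * ht z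
    have h := dvd_sub hM hPp (f := fun z : P => (m (Q ⊔ Subgroup.zpowers (z : G)) : ℤ) ^ 2)
      (by rw [e]; exact mul_mem hrm (comp_inv_mem hrm)) z
    simpa using h
  have hmT : ∀ T : Subgroup G, T ≤ P → T ≠ ⊥ →
      ¬ p ∣ m T ∧ (p : ℤ) ∣ (m T : ℤ) ^ 2 - (m P : ℤ) ^ 2 := by
    suffices ∀ (n : ℕ) (T : Subgroup G), Nat.card P - Nat.card T ≤ n → T ≤ P → T ≠ ⊥ →
        ¬ p ∣ m T ∧ (p : ℤ) ∣ (m T : ℤ) ^ 2 - (m P : ℤ) ^ 2 from
      fun T => this _ T le_rfl
    intro n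
    induction n using Nat.strong_induction_on with
    | _ n ih =>
      intro T hn hT hTne
      rcases eq_or_lt_of_le hT with rfl | hlt
      · exact ⟨hmP, by simp⟩
      obtain ⟨z, hz, hzT⟩ := SetLike.exists_of_lt hlt
      set T' := T ⊔ Subgroup.zpowers z
      have hT' : T' ≤ P := sup_le hT (Subgroup.zpowers_le.mpr hz)
      have hlt' : T < T' := left_lt_sup.mpr fun h => hzT (h (Subgroup.mem_zpowers z))
      have hc : Nat.card T < Nat.card T' := by
        by_contra hcon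
        exact hlt'.ne (Subgroup.eq_of_le_of_card_ge hlt'.le (Nat.not_lt.mp hcon))
      have hc' : Nat.card T' ≤ Nat.card P := Subgroup.card_le_of_le hT'
      obtain ⟨h1, h2⟩ := ih (Nat.card P - Nat.card T') (by omega) T' le_rfl hT'
        (fun h => hTne (le_bot_iff.mp (h ▸ hlt'.le)))
      have h3 := hsqc T hT hTne ⟨z, hz⟩
      refine ⟨fun hd => h1 ?_, ?_⟩
      · have h4 : (p : ℤ) ∣ (m T' : ℤ) ^ 2 := by
          have hd' : (p : ℤ) ∣ (m T : ℤ) ^ 2 :=
            dvd_pow (Int.natCast_dvd_natCast.mpr hd) two_ne_zero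
          simpa [T'] using dvd_add h3 hd'
        exact Int.natCast_dvd_natCast.mp
          ((Nat.prime_iff_prime_int.mp (Fact.out : p.Prime)).dvd_of_dvd_pow h4)
      · have h3' : (p : ℤ) ∣ (m T' : ℤ) ^ 2 - (m T : ℤ) ^ 2 := h3
        have h5 := Int.dvd_sub h2 h3'
        rwa [sub_sub_sub_cancel_left] at h5
  -- the modulus and the signs
  let μ : ℤ := if p = 2 then 4 else p
  let gS : Subgroup G → ℤ := fun T => if μ ∣ (m T : ℤ) - m P then (m T : ℤ) else -(m T : ℤ)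
  have hgS : ∀ T, gS T = m T ∨ gS T = -(m T : ℤ) := fun T => by
    simp only [gS]
    split_ifs
    exacts [Or.inl rfl, Or.inr rfl]
  have hgμ : ∀ T : Subgroup G, T ≤ P → T ≠ ⊥ → μ ∣ gS T - m P := by
    intro T hT hTne
    obtain ⟨h1, h2⟩ := hmT T hT hTne
    simp only [gS]
    split_ifs with h
    · exact h
    simp only [μ] at h ⊢
    by_cases hp2 : p = 2
    · subst hp2
      simp only [if_true] at h ⊢
      omega
    · rw [if_neg hp2] at h ⊢
      rw [sq_sub_sq] at h2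
      rcases (Nat.prime_iff_prime_int.mp (Fact.out : p.Prime)).dvd_or_dvd h2 with h4 | h4
      · rw [show -(m T : ℤ) - (m P : ℤ) = -((m T : ℤ) + (m P : ℤ)) by ring]
        exact dvd_neg.mpr h4
      · exact absurd h4 h
  have hgnd : ∀ T : Subgroup G, T ≤ P → T ≠ ⊥ → ¬ (p : ℤ) ∣ gS T := fun T hT hTne h => by
    refine (hmT T hT hTne).1 (Int.natCast_dvd_natCast.mp ?_)
    rcases hgS T with e | e <;> rw [e] at h
    exacts [h, dvd_neg.mp h]
  -- gluing
  have hrow : ∀ Q : Subgroup G, Q ≤ P → Q ≠ ⊥ →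
      (fun z : P => (gS (Q ⊔ Subgroup.zpowers (z : G)) : ℂ)) ∈ vchar P := by
    intro Q hQ hQne
    obtain ⟨r, t, hr, hrt, ht, hint, hr1⟩ :=
      Local.exists_row hM htop hab hj hjc hne hm hQ (hbot Q hQ hQne)
    have hTs : ∀ z : P, Q ⊔ Subgroup.zpowers (z : G) ≤ P ∧ Q ⊔ Subgroup.zpowers (z : G) ≠ ⊥ :=
      fun z => ⟨sup_le hQ (Subgroup.zpowers_le.mpr z.2), fun h => hQne (le_bot_iff.mp (h ▸ le_sup_left))⟩
    have hQ1 : Q ⊔ Subgroup.zpowers ((1 : P) : G) = Q := by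
      rw [Subgroup.coe_one, Subgroup.zpowers_one_eq_bot, sup_bot_eq]
    have hr' := hrt 1
    rw [hr1, hQ1] at hr'
    have hmQ0 : (m Q : ℂ) ≠ 0 := Nat.cast_ne_zero.mpr fun h => (hmT Q hQ hQne).1 (h ▸ dvd_zero p)
    obtain ⟨f, hf, hfm, hfp, hf4⟩ := exists_signed hM hPp (mem_of_isCharacter hr)
      (m := fun z : P => m (Q ⊔ Subgroup.zpowers (z : G)))
      (fun z => (hmT _ (hTs z).1 (hTs z).2).1)
      (fun z k hk => by
        show m (Q ⊔ Subgroup.zpowers ((z ^ k : P) : G)) = m (Q ⊔ Subgroup.zpowers (z : G))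
        congr 2
        have hk' : k.Coprime (orderOf (z : G)) := by
          rw [Subgroup.orderOf_coe]; exact hk.of_dvd_right (orderOf_dvd_natCard z)
        refine le_antisymm (Subgroup.zpowers_le.mpr ?_) (Subgroup.zpowers_le.mpr ?_)
        · exact ⟨k, by simp⟩
        · obtain ⟨n, hn⟩ := exists_pow_eq_self_of_coprime hk'
          exact ⟨n, by simpa only [Subgroup.coe_pow, zpow_natCast] using hn⟩)
      hrt ht hint (mul_right_cancel₀ hmQ0 (by rw [one_mul]; exact hr'.symm))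
    simp only [hQ1] at hfp hf4
    have hfμ : ∀ z, μ ∣ f z - m Q := fun z => by
      simp only [μ]
      split_ifs with hp2
      · exact hf4 hp2 z
      · exact hfp z
    obtain ⟨ε, hε, hεQ⟩ : ∃ ε : ℤ, (ε = 1 ∨ ε = -1) ∧ gS Q = ε * m Q := by
      rcases hgS Q with e | e
      exacts [⟨1, Or.inl rfl, by rw [e, one_mul]⟩, ⟨-1, Or.inr rfl, by rw [e]; ring⟩]
    have key : ∀ z : P, gS (Q ⊔ Subgroup.zpowers (z : G)) = ε * f z := by
      intro z
      obtain ⟨hT, hTne⟩ := hTs z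
      set T := Q ⊔ Subgroup.zpowers (z : G)
      have h1 : μ ∣ ε * f z - m P := by
        have e : ε * f z - m P = ε * (f z - m Q) + (gS Q - m P) := by rw [hεQ]; ring
        rw [e]
        exact dvd_add (dvd_mul_of_dvd_right (hfμ z) _) (hgμ Q hQ hQne)
      have h2 := Int.dvd_sub (hgμ T hT hTne) h1
      rw [sub_sub_sub_cancel_right] at h2
      have hcases : ε * f z = gS T ∨ ε * f z = -gS T := by
        rcases hε with rfl | rfl <;> rcases hfm z with e | e <;> rcases hgS T with e' | e' <;>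
          rw [e, e'] <;> simp [T]
      rcases hcases with e | e
      · exact e.symm
      exfalso
      rw [e, sub_neg_eq_add] at h2
      simp only [μ] at h2
      have h5 := hgnd T hT hTne
      by_cases hp2 : p = 2
      · subst hp2
        simp only [if_true] at h2
        omega
      · rw [if_neg hp2, ← two_mul] at h2
        rcases (Nat.prime_iff_prime_int.mp (Fact.out : p.Prime)).dvd_or_dvd h2 with h6 | h6
        · exact hp2 ((Nat.prime_dvd_prime_iff_eq Fact.out Nat.prime_two).mp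
            (Int.natCast_dvd_natCast.mp h6))
        · exact h5 h6
    have e : (fun z : P => (gS (Q ⊔ Subgroup.zpowers (z : G)) : ℂ)) =
        ε • fun z : P => (f z : ℂ) := funext fun z => by
      rw [key, Pi.smul_apply, zsmul_eq_mul, Int.cast_mul]
    rw [e]
    exact zsmul_mem hf ε
  obtain ⟨h, hh, hhg⟩ := exists_glue (D := P) (fun S => gS (S.map P.subtype)) fun S hS => by
    have hS' : S.map P.subtype ≠ ⊥ := fun e =>
      hS ((Subgroup.map_eq_bot_iff_of_injective S P.subtype_injective).mp e)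
    simp only [Subgroup.map_sup, MonoidHom.map_zpowers]
    exact hrow _ (Subgroup.map_subtype_le S) hS'
  -- the characters
  obtain ⟨f, hf, hff, hfr⟩ := exists_lift (M := M) hj.mem hj.idem
  let R : Cfsg.IrrCharacter G → P → ℂ := fun χ z => tauBar χ (z : G) j
  let g : P → ℤ := fun v => gS (Subgroup.zpowers (v : G))
  have hR : ∀ χ, R χ ∈ vchar P := fun χ => by
    have e : R χ = fun z : P => StarChar.Fixed.tau χ (z : G) f := funext fun z => by
      show tauBar χ (z : G) j = _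
      rw [← hfr, ← StarChar.Theta.tauBar_eq χ z.2 hf hff]
    rw [e]
    exact mem_of_isCharacter (StarChar.Integrality.isCharacter_tau χ hf hff)
  have hzne : ∀ v : P, v ≠ 1 → Subgroup.zpowers (v : G) ≠ ⊥ := fun v hv h =>
    hv (Subtype.ext (Subgroup.zpowers_eq_bot.mp h))
  have hval : ∀ χ (v : P), v ≠ 1 → ∃ t : ℂ, IsIntegral ℤ t ∧
      R χ v = t * (m (Subgroup.zpowers (v : G)) : ℂ) ∧
      t = Local.tco χ (v : G) (blkAt (b := (⟨P, c⟩ : Idx (Res M) G)) htop.1 v) := by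
    intro χ v hv
    have hT : Subgroup.zpowers (v : G) ≤ P := Subgroup.zpowers_le.mpr v.2
    have hfT := hbot _ hT (hzne v hv)
    obtain ⟨hU, -, -⟩ := Local.facts_om hM htop hab hT hfT
    obtain ⟨θ, hθ⟩ := exists_mem (Local.om c htop.1 hab hT)
    refine ⟨_, Local.isIntegral_tco χ, ?_, rfl⟩
    rw [Local.blkAt_eq htop hab v, ← hm _ hT hfT θ hθ]
    obtain ⟨k, hk⟩ := IsPGroup.iff_orderOf.mp hPp v
    exact Local.tauBar_tco hM χ ⟨k, by rw [← hk, Subgroup.orderOf_coe]⟩ (fx_anti hT hj.mem)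
      hj.idem (Local.blo_om htop hab hj hjc hne hT) hU hθ
  have hgram : ∀ χ χ' (v : P), v ≠ 1 → gram (b := (⟨P, c⟩ : Idx (Res M) G)) htop χ χ' v =
      Local.tco χ (v : G) (blkAt (b := (⟨P, c⟩ : Idx (Res M) G)) htop.1 v) *
        conj (Local.tco χ' (v : G) (blkAt (b := (⟨P, c⟩ : Idx (Res M) G)) htop.1 v)) := by
    intro χ χ' v hv
    obtain ⟨-, hps⟩ := Local.facts_blkAt hM htop hab v
      (hbot _ (Subgroup.zpowers_le.mpr v.2) (hzne v hv))
    rw [gram_free (b := (⟨P, c⟩ : Idx (Res M) G)) htop χ χ' v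
      (fun α hα h => auto_free hfree hα hv h), hps]
    have hC : (Nat.card C[Subgroup.zpowers (v : G)] : ℂ) ≠ 0 :=
      Nat.cast_ne_zero.mpr Nat.card_pos.ne'
    have hq : (Nat.card P : ℂ) ≠ 0 := Nat.cast_ne_zero.mpr Nat.card_pos.ne'
    field_simp
  have hm0 : ∀ v : P, v ≠ 1 → (m (Subgroup.zpowers (v : G)) : ℂ) ≠ 0 := fun v hv =>
    Nat.cast_ne_zero.mpr fun h =>
      (hmT _ (Subgroup.zpowers_le.mpr v.2) (hzne v hv)).1 (h ▸ dvd_zero p)
  have hinvR : ∀ α ∈ (autHom (⟨P, c⟩ : Idx (Res M) G)).range, ∀ v : P, ∀ χ,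
      R χ (α v) = R χ v := by
    rintro _ ⟨x, rfl⟩ v χ
    have he := Unique.eqv_cj hM htop hab hj hmPθ hmP x.2
    show tauBar χ ((autHom (⟨P, c⟩ : Idx (Res M) G) x v : P) : G) j = tauBar χ (v : G) j
    rw [autHom_apply]
    have hle : Subgroup.zpowers ((x : G) * (v : G) * (x : G)⁻¹) ≤ P :=
      Subgroup.zpowers_le.mpr ((Subgroup.mem_normalizer_iff.mp (stab_le_normalizer _ x.2) v).mp v.2)
    have hj' : cj (x : G) j ∈ fx (Res M) P := StarChar.Equiv.cj_mem_fx
      (fun g => Subgroup.mem_normalizer_iff.mp (stab_le_normalizer _ x.2) g) hj.mem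
    rw [tauBar_eqv χ (fx_anti hle hj.mem) (fx_anti hle hj') hj.idem
      (by rw [← map_mul, hj.idem]) (he.mono hle),
      StarChar.Equiv.tauBar_cj χ (x : G) (fx_anti (Subgroup.zpowers_le.mpr v.2) hj.mem) hj.idem]
  have hinvm : ∀ α ∈ (autHom (⟨P, c⟩ : Idx (Res M) G)).range, ∀ v : P, v ≠ 1 →
      m (Subgroup.zpowers ((α v : P) : G)) = m (Subgroup.zpowers (v : G)) := by
    intro α hα v hv
    have hv' : α v ≠ 1 := fun h => hv (α.map_eq_one_iff.mp h)
    obtain ⟨χ, hχ⟩ := exists_mem ψ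
    letI := Fintype.ofFinite P
    obtain ⟨r, hr, hgr⟩ := exists_pos (b := (⟨P, c⟩ : Idx (Res M) G)) htop hψ hab hM
      (mem_toSet.mp hχ) v
    obtain ⟨t, -, h1, ht⟩ := hval χ v hv
    obtain ⟨t', -, h1', ht'⟩ := hval χ (α v) hv'
    have e1 := hgram χ χ v hv
    have e2 := hgram χ χ (α v) hv'
    rw [← ht, hgr] at e1
    rw [← ht', gram_inv (b := (⟨P, c⟩ : Idx (Res M) G)) htop hab χ χ α hα v, hgr] at e2
    have e3 : R χ (α v) * conj (R χ (α v)) = R χ v * conj (R χ v) := by rw [hinvR α hα v χ]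
    rw [h1, h1', map_mul, map_mul, Complex.conj_natCast, Complex.conj_natCast] at e3
    have e4 : (r : ℂ) * ((m (Subgroup.zpowers ((α v : P) : G)) ^ 2 : ℕ) : ℂ) =
        (r : ℂ) * ((m (Subgroup.zpowers (v : G)) ^ 2 : ℕ) : ℂ) := by
      push_cast
      linear_combination e3 + (m (Subgroup.zpowers ((α v : P) : G)) : ℂ) ^ 2 * e2 -
        (m (Subgroup.zpowers (v : G)) : ℂ) ^ 2 * e1
    exact (Nat.pow_left_injective two_ne_zero)
      (Nat.cast_injective (mul_left_cancel₀ (Complex.ofReal_ne_zero.mpr hr.ne') e4))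
  have hdiv : ∀ χ (v : P) (hv : v ≠ 1), ∃ s : ℂ, (s = 1 ∨ s = -1) ∧
      R χ v / (g v : ℂ) =
        s * Local.tco χ (v : G) (blkAt (b := (⟨P, c⟩ : Idx (Res M) G)) htop.1 v) ∧
      s = (m (Subgroup.zpowers (v : G)) : ℂ) / (g v : ℂ) := by
    intro χ v hv
    obtain ⟨t, -, h1, ht⟩ := hval χ v hv
    refine ⟨(m (Subgroup.zpowers (v : G)) : ℂ) / (g v : ℂ), ?_, ?_, rfl⟩
    · rcases hgS (Subgroup.zpowers (v : G)) with e | e
      · left; simp [g, e, div_self (hm0 v hv)]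
      · right; simp [g, e, div_neg, div_self (hm0 v hv)]
    · rw [h1, ht]; ring
  refine ⟨R, g, hR, ⟨h, hh, fun v hv => ?_⟩, fun v hv => hgnd _ (Subgroup.zpowers_le.mpr v.2)
    (hzne v hv), fun v k hk _ => ?_, fun α hα v hv => ⟨?_, hinvR α hα v⟩, fun χ v hv => ?_,
    fun χ χ' v hv => ?_⟩
  · rw [hhg v hv, MonoidHom.map_zpowers]
    rfl
  · show gS _ = gS _
    congr 1
    have hk' : k.Coprime (orderOf (v : G)) := by
      rw [Subgroup.orderOf_coe]; exact hk.of_dvd_right (orderOf_dvd_natCard v)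
    refine le_antisymm (Subgroup.zpowers_le.mpr ⟨k, by simp⟩) (Subgroup.zpowers_le.mpr ?_)
    obtain ⟨n, hn⟩ := exists_pow_eq_self_of_coprime hk'
    exact ⟨n, by simpa only [Subgroup.coe_pow, zpow_natCast] using hn⟩
  · show gS _ = gS _
    simp only [gS, hinvm α hα v hv]
  · obtain ⟨s, hs, e, -⟩ := hdiv χ v hv
    rw [e]
    rcases hs with rfl | rfl
    · simpa using Local.isIntegral_tco χ
    · simpa using (Local.isIntegral_tco χ).neg
  · obtain ⟨s, hs, e, es⟩ := hdiv χ v hv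
    obtain ⟨s', -, e', es'⟩ := hdiv χ' v hv
    rw [hgram χ χ' v hv, e, e', es', ← es]
    rcases hs with rfl | rfl <;> simp

end Cfsg.Agent.Lib.FreeAbelian.Data
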