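import Cfsg.Agent.Lib.StarChar.Section
import Cfsg.Agent.Lib.StarChar.Support
import Cfsg.Agent.Lib.Watanabe.Lift
import Cfsg.Agent.Lib.Blocks.SecondMain

/-!
# Values of characters at lifted idempotents

The value at a lifted idempotent only depends on the restriction of the character to the regular
elements (`tauBar_one_congr`), and the value at `v` times a fixed idempotent of a block `ω` of
`C(v)` is read off from the part of the character in `ω` (`tauBar_eq_mul`).
-/

set_option autoImplicit false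
set_option linter.style.haveILetI false
set_option linter.unusedSectionVars false

namespace Cfsg.Agent.Lib.FreeAbelian.Eval

open MonoidAlgebra
open Cfsg.Agent.Lib.Blocks
open Cfsg.Agent.Lib.BrauerMap.Basic
open Cfsg.Agent.Lib.BrauerPairs.Center Cfsg.Agent.Lib.BrauerPairs.Trunc
open Cfsg.Agent.Lib.BrauerPairs.Pairs Cfsg.Agent.Lib.BrauerPairs.Bridge
open Cfsg.Agent.Lib.StarChar.Fixed Cfsg.Agent.Lib.StarChar.Theta
open Cfsg.Agent.Lib.StarChar.Comp Cfsg.Agent.Lib.StarChar.Section
open Cfsg.Agent.Lib.Characters.Basic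

universe u

attribute [local instance] Ideal.Quotient.field

variable {M : Ideal Cfsg.AlgInt} [M.IsMaximal] {G : Type u} [Group G] [Finite G]
  {p : ℕ} [Fact p.Prime]

local notation "C[" P "]" => Subgroup.centralizer ((P : Subgroup G) : Set G)
local notation "kG" => MonoidAlgebra (Res M) G
local notation "𝒪" => localRing M

/-- The coefficients of an idempotent sum to zero over a singular class. -/
theorem sum_coeff_conj_singular [Fintype G] (hM : Cfsg.IsPModular p M)
    {z : MonoidAlgebra 𝒪 G} (hz : z * z = z) {h : G} (hh : p ∣ orderOf h) :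
    ∑ v : G, z.coeff (v * h * v⁻¹) = 0 := by
  classical
  haveI : Module.Free 𝒪 (MonoidAlgebra 𝒪 G) :=
    Module.Free.of_equiv (MonoidAlgebra.coeffLinearEquiv 𝒪).symm
  haveI : Module.Finite 𝒪 (MonoidAlgebra 𝒪 G) :=
    Module.Finite.equiv (MonoidAlgebra.coeffLinearEquiv 𝒪).symm
  obtain ⟨y, y', hyy, hcomm, ⟨j, hj⟩, hy', -, -⟩ :=
    Cfsg.Agent.Lib.Brauer.Induction.exists_pParts p hM.1 h
  have hy1 : y ≠ 1 := by
    intro e
    rw [e, one_mul] at hyy
    exact hy' (hyy ▸ hh)
  let π : Equiv.Perm G := Equiv.mulRight y⁻¹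
  have hπn : ∀ (n : ℕ) (v : G), (π ^ n) v = v * (y ^ n)⁻¹ := by
    intro n
    induction n with
    | zero => simp
    | succ n ih =>
      intro v
      rw [pow_succ', Equiv.Perm.mul_apply, ih, pow_succ y, mul_inv_rev]
      show v * (y ^ n)⁻¹ * y⁻¹ = _
      rw [mul_assoc]
      congr 1
      exact ((Commute.refl y).pow_left n).inv_inv.eq
  have hπk : π ^ p ^ j = 1 := Equiv.ext fun v => by
    rw [hπn, ← hj, pow_orderOf_eq_one, inv_one, mul_one, Equiv.Perm.one_apply]
  have hπfix : ∀ v : G, π v ≠ v := fun v e => hy1 (by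
    have : v * y⁻¹ = v := e
    rwa [mul_eq_left, inv_eq_one] at this)
  obtain ⟨S, hS, hS'⟩ := exists_orbit_class hM.1 π hπk hπfix
  have hπinv : ∀ (n : ℕ) (v : G), (π⁻¹ ^ n) v = v * y ^ n := by
    intro n v
    rw [inv_pow, Equiv.Perm.inv_eq_iff_eq, hπn, mul_inv_cancel_right]
  set σ := twoSided 𝒪 (1, y)
  set σ' := twoSided 𝒪 (1, y⁻¹)
  set E : Module.End 𝒪 (MonoidAlgebra 𝒪 G) := LinearMap.mulLeft 𝒪 z
  set s : Module.End 𝒪 (MonoidAlgebra 𝒪 G) := setProj S
  set D := twoSided 𝒪 (1, y')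
  have hone : ∀ g : G, Commute (twoSided 𝒪 (1, g)) E := fun g =>
    BrauerMap.SecondMain.commute_twoSided_mulLeft_of_commute
      (by rw [← MonoidAlgebra.one_def]; exact Commute.one_left z) g
  have h12 : σ * σ' = 1 := by
    simp only [σ, σ', ← map_mul, Prod.mk_mul_mk, one_mul, mul_inv_cancel]
    exact map_one _
  have h21 : σ' * σ = 1 := by
    simp only [σ, σ', ← map_mul, Prod.mk_mul_mk, one_mul, inv_mul_cancel]
    exact map_one _
  have hpow : ∀ n : ℕ, σ ^ n = twoSided 𝒪 (1, y ^ n) := fun n => by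
    simp only [σ, ← map_pow, Prod.pow_mk, one_pow]
  have hpow' : ∀ n : ℕ, σ' ^ n = twoSided 𝒪 (1, (y ^ n)⁻¹) := fun n => by
    simp only [σ', ← map_pow, Prod.pow_mk, one_pow, inv_pow]
  have hEE : E * E = E := by
    refine LinearMap.ext fun t => ?_
    simp only [E, Module.End.mul_apply, LinearMap.mulLeft_apply, ← mul_assoc, hz]
  have cs : Commute (σ ^ p) s := by
    refine endExt 𝒪 fun v r => ?_
    have e : v * (y ^ p)⁻¹ = (π ^ p) v := (hπn p v).symm
    rw [Module.End.mul_apply, Module.End.mul_apply, hpow, twoSided_single, setProj_single,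
      setProj_single, one_mul, e]
    by_cases hv : S v
    · rw [if_pos hv, if_pos ((hS v).mpr hv), twoSided_single, one_mul, e]
    · rw [if_neg hv, if_neg (fun h' => hv ((hS v).mp h')), map_zero]
  have hsum : ∑ n ∈ Finset.range p, σ ^ n * s * σ' ^ n = 1 := by
    refine endExt 𝒪 fun v r => ?_
    rw [LinearMap.sum_apply, Module.End.one_apply]
    obtain ⟨n₀, ⟨hn₀, hSn₀⟩, huniq⟩ := hS' v
    have hw : ∀ n : ℕ, (σ ^ n * s * σ' ^ n) (single v r) =
        if S ((π⁻¹ ^ n) v) then single v r else 0 := by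
      intro n
      rw [Module.End.mul_apply, Module.End.mul_apply, hpow', twoSided_single, inv_inv, one_mul,
        setProj_single, ← hπinv]
      split_ifs
      · rw [hpow, twoSided_single, one_mul, hπinv, mul_inv_cancel_right]
      · rw [map_zero]
    simp only [hw]
    exact (Finset.sum_eq_single n₀
      (fun n hn hne => if_neg fun h' => hne (huniq n ⟨Finset.mem_range.mp hn, h'⟩))
      (fun h' => absurd (Finset.mem_range.mpr hn₀) h')).trans (if_pos hSn₀)
  have haE : Commute (E * s * E) E := by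
    show E * s * E * E = E * (E * s * E)
    rw [mul_assoc, hEE, ← mul_assoc, ← mul_assoc, hEE]
  have cσ'n : ∀ n, Commute (σ' ^ n) E := fun n => by rw [hpow']; exact hone _
  have cσn : ∀ n, Commute (σ ^ n) E := fun n => by rw [hpow]; exact hone _
  have hterm : ∀ n, σ ^ n * (E * s * E) * σ' ^ n = E * (σ ^ n * s * σ' ^ n) * E := fun n => by
    rw [← mul_assoc, ← mul_assoc, (cσn n).eq, mul_assoc _ E (σ' ^ n), ← (cσ'n n).eq]
    simp only [mul_assoc]
  have key := trace_eq_zero_of_relTrace_congr hM (σ := σ) (σ' := σ') (a := E * s * E) (E := E)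
    (D := D) (k := j) (m := orderOf y') ?_ h12 h21 ?_ (∅ : Finset Unit) (fun _ => 0) (fun _ => 1)
    (by simp) (by simp) ?_ haE hEE (hone y) hy' ?_ ?_ (hone y')
  · rw [← map_mul, Prod.mk_mul_mk, one_mul, hyy, trace_twoSided_mulLeft_eq] at key
    simpa using key
  · rw [hpow, ← hj, pow_orderOf_eq_one]
    exact map_one _
  · exact ((((cσn p).mul_right cs).mul_right (cσn p))).symm
  · rw [Finset.sum_congr rfl fun n _ => hterm n, ← Finset.sum_mul, ← Finset.mul_sum, hsum, mul_one,
      hEE, hEE]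
    simp
  · simp only [D, ← map_pow, Prod.pow_mk, one_pow, pow_orderOf_eq_one]
    exact map_one _
  · exact (Prod.commute_iff.mpr ⟨Commute.refl 1, hcomm⟩).map _

/-- A class function vanishing on the regular elements vanishes at lifted idempotents. -/
theorem lin_eq_zero_of_regular (hM : Cfsg.IsPModular p M) {z : MonoidAlgebra 𝒪 G}
    (hz : z * z = z) {F : G → ℂ} (hcl : Cfsg.IsClassFunction G F)
    (h0 : ∀ s : G, ¬ p ∣ orderOf s → F s = 0) : lin F (toC z) = 0 := by
  classical
  haveI := Fintype.ofFinite G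
  have key : (Fintype.card G : ℂ) * lin F (toC z) =
      ∑ h : G, F h * ((∑ v : G, z.coeff (v * h * v⁻¹) : 𝒪) : ℂ) := by
    rw [lin_apply]
    push_cast
    conv_rhs => simp only [Finset.mul_sum]; rw [Finset.sum_comm]
    rw [← nsmul_eq_mul, ← Finset.card_univ, ← Finset.sum_const]
    refine Finset.sum_congr rfl fun v _ => ?_
    refine (Fintype.sum_equiv (MulAut.conj v).toEquiv _ _ fun h => ?_).symm
    show F h * ((z.coeff (v * h * v⁻¹) : 𝒪) : ℂ) =
      (toC z).coeff (v * h * v⁻¹) * F (v * h * v⁻¹)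
    rw [hcl, mul_comm, toC, coeff_mapRingHom]
    rfl
  have h1 : (Fintype.card G : ℂ) * lin F (toC z) = 0 := by
    rw [key]
    refine Finset.sum_eq_zero fun h _ => ?_
    by_cases hh : p ∣ orderOf h
    · rw [sum_coeff_conj_singular hM hz hh, ZeroMemClass.coe_zero, mul_zero]
    · rw [h0 h hh, zero_mul]
  exact (mul_eq_zero.mp h1).resolve_left (Nat.cast_ne_zero.mpr Fintype.card_ne_zero)

theorem mem_fx_bot {R : Type*} [CommRing R] (a : MonoidAlgebra R G) :
    a ∈ fx R (⊥ : Subgroup G) :=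
  mem_fx.mpr fun u hu g => by rw [Subgroup.mem_bot.mp hu]; simp

theorem mem_fx_zpowers_one {R : Type*} [CommRing R] (a : MonoidAlgebra R G) :
    a ∈ fx R (Subgroup.zpowers (1 : G)) := by
  rw [Subgroup.zpowers_one_eq_bot]
  exact mem_fx_bot a

theorem tau_one_eq (χ : Cfsg.IrrCharacter G) (e : MonoidAlgebra 𝒪 G) :
    tau χ 1 e = lin (χ : G → ℂ) (toC e) := by
  rw [tau, ← MonoidAlgebra.one_def, one_mul]
  rfl

/-- The value at a lifted idempotent only depends on the regular part. -/
theorem tauBar_one_congr (hM : Cfsg.IsPModular p M) {i : kG} (hi : i * i = i)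
    {θ θ' : Cfsg.IrrCharacter G}
    (h : ∀ s : G, ¬ p ∣ orderOf s → (θ : G → ℂ) s = (θ' : G → ℂ) s) :
    tauBar θ 1 i = tauBar θ' 1 i := by
  classical
  haveI := Fintype.ofFinite G
  obtain ⟨e, he, hee, rfl⟩ := exists_lift (Q := (⊥ : Subgroup G)) (mem_fx_bot i) hi
  rw [← tauBar_eq θ (one_mem _) he hee, ← tauBar_eq θ' (one_mem _) he hee, tau_one_eq, tau_one_eq,
    ← sub_eq_zero]
  have h1 := lin_eq_zero_of_regular hM hee (F := (θ : G → ℂ) - (θ' : G → ℂ))
    (fun g t => by simp only [Pi.sub_apply, isClassFunction_irr θ g t, isClassFunction_irr θ' g t])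
    (fun s hs => by rw [Pi.sub_apply, h s hs, sub_self])
  rw [← h1, lin_apply, lin_apply, lin_apply, ← Finset.sum_sub_distrib]
  exact Finset.sum_congr rfl fun g _ => by rw [Pi.sub_apply, mul_sub]

/-- The value at a lifted idempotent is a natural number. -/
theorem exists_nat_tauBar (χ : Cfsg.IrrCharacter G) {i : kG} (hi : i * i = i) :
    ∃ n : ℕ, tauBar χ 1 i = n := by
  obtain ⟨e, he, hee, rfl⟩ := exists_lift (Q := (⊥ : Subgroup G)) (mem_fx_bot i) hi
  rw [← tauBar_eq χ (one_mem _) he hee]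
  obtain ⟨n, ρ, hρ⟩ := StarChar.Integrality.isCharacter_tau χ he hee
  refine ⟨n, ?_⟩
  have h1 := congrFun hρ 1
  rw [Representation.char_one] at h1
  simpa using h1.symm

/-- Transport along an isomorphism. -/
theorem tauBar_pushIrr {L L' : Type u} [Group L] [Group L'] [Finite L] [Finite L'] (e : L ≃* L')
    (θ : Cfsg.IrrCharacter L) {i : MonoidAlgebra (Res M) L} (hi : i * i = i) :
    tauBar (pushIrr e θ) 1 (MonoidAlgebra.domCongr (Res M) (Res M) e i) = tauBar θ 1 i := by
  classical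
  haveI := Fintype.ofFinite L
  haveI := Fintype.ofFinite L'
  obtain ⟨f, hf, hff, rfl⟩ := exists_lift (Q := (⊥ : Subgroup L)) (mem_fx_bot i) hi
  let ψ : MonoidAlgebra 𝒪 L ≃ₐ[𝒪] MonoidAlgebra 𝒪 L' := MonoidAlgebra.domCongr 𝒪 𝒪 e
  have hc : ∀ (R : Type) [CommRing R] (a : MonoidAlgebra R L) (g : L'),
      (MonoidAlgebra.domCongr R R e a).coeff g = a.coeff (e.symm g) := by
    intro R _ a g
    induction a using MonoidAlgebra.induction_linear with
    | zero => simp
    | add x y hx hy => simp [hx, hy]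
    | single w r =>
      rw [domCongr_single, coeff_single, coeff_single]
      simp only [Finsupp.single_apply]
      exact if_congr ⟨fun h => by rw [← h, MulEquiv.symm_apply_apply],
        fun h => by rw [h, MulEquiv.apply_symm_apply]⟩ rfl rfl
  have hr : red M (ψ f) = MonoidAlgebra.domCongr (Res M) (Res M) e (red M f) := by
    refine MonoidAlgebra.ext (Finsupp.ext fun g => ?_)
    rw [coeff_red, hc, hc, coeff_red]
  rw [← hr, ← tauBar_eq _ (one_mem _) (mem_fx_bot (ψ f)) (by rw [← map_mul, hff]),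
    ← tauBar_eq θ (one_mem _) hf hff, tau_one_eq, tau_one_eq, lin_apply, lin_apply]
  refine (Fintype.sum_equiv e.toEquiv _ _ fun s => ?_).symm
  show (toC f).coeff s * (θ : L → ℂ) s = (toC (ψ f)).coeff (e s) * (pushIrr e θ : L' → ℂ) (e s)
  rw [pushIrr_apply, MulEquiv.symm_apply_apply, toC, toC, coeff_mapRingHom, coeff_mapRingHom,
    hc, MulEquiv.symm_apply_apply]

variable [CharP (Res M) p]

/-- Idempotents with the same truncation give the same value. -/
theorem tauBar_congr_brx (hM : Cfsg.IsPModular p M) (χ : Cfsg.IrrCharacter G) {v : G}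
    (hv : ∃ k : ℕ, orderOf v = p ^ k) {i i' : kG} (hi : i ∈ fx (Res M) (Subgroup.zpowers v))
    (hi' : i' ∈ fx (Res M) (Subgroup.zpowers v)) (hii : i * i = i) (hii' : i' * i' = i')
    (h : brx (Subgroup.zpowers v) i = brx (Subgroup.zpowers v) i') :
    tauBar χ v i = tauBar χ v i' := by
  have hvm := Subgroup.mem_zpowers v
  obtain ⟨f, hf, hff, rfl⟩ := exists_lift hi hii
  obtain ⟨f', hf', hff', rfl⟩ := exists_lift hi' hii'
  rw [← tauBar_eq χ hvm hf hff, ← tauBar_eq χ hvm hf' hff']
  have hcv : ∀ {a : MonoidAlgebra 𝒪 G}, a ∈ fx 𝒪 (Subgroup.zpowers v) →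
      ∀ z ∈ ({v, 1} : Set G), Commute (single z 1) a := by
    intro a ha z hz
    refine commute_single (mem_fx.mp ha) ?_
    rcases hz with rfl | rfl
    exacts [hvm, one_mem _]
  have hb : Watanabe.Lift.brE v (red M f) = Watanabe.Lift.brE v (red M f') :=
    ext_injective _ h
  have hwr : ∀ a : MonoidAlgebra 𝒪 G, Watanabe.Lift.red a = red M a := fun _ => rfl
  have hck : ∀ {a : kG}, a ∈ fx (Res M) (Subgroup.zpowers v) → Commute (single v 1) a :=
    fun ha => commute_single (mem_fx.mp ha) hvm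
  have key := Watanabe.Lift.lval_eq_of_equiv hM χ hv
    (y := (1 : G)) (by rw [orderOf_one]; exact hM.1.not_dvd_one) (Commute.one_right v)
    (i := f) (j := f') (u := 1) (v := 1) hff hff'
    (fun z hz => ⟨hcv hf z hz, hcv hf' z hz, Commute.one_right _, Commute.one_right _⟩) ?_ ?_
  · rw [mul_one] at key
    exact key
  · rw [mul_one, mul_one, map_mul, map_mul, hwr, hwr, Watanabe.Lift.brE_mul hv ((hck hi).mul_right (hck hi'))
      (hck hi), Watanabe.Lift.brE_mul hv (hck hi) (hck hi'), ← hb,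
      ← Watanabe.Lift.brE_mul hv (hck hi) (hck hi), hii,
      ← Watanabe.Lift.brE_mul hv (hck hi) (hck hi), hii]
  · rw [mul_one, mul_one, map_mul, map_mul, hwr, hwr, Watanabe.Lift.brE_mul hv ((hck hi').mul_right (hck hi))
      (hck hi'), Watanabe.Lift.brE_mul hv (hck hi') (hck hi), hb,
      ← Watanabe.Lift.brE_mul hv (hck hi') (hck hi'), hii',
      ← Watanabe.Lift.brE_mul hv (hck hi') (hck hi'), hii']

/-- **Evaluation on a section.** -/
theorem tauBar_eq_mul (hM : Cfsg.IsPModular p M) (χ : Cfsg.IrrCharacter G) {v : G}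
    (hv : ∃ k : ℕ, orderOf v = p ^ k) {i : kG} (hi : i ∈ fx (Res M) (Subgroup.zpowers v))
    (hii : i * i = i) {ω : Blk (Res M) C[Subgroup.zpowers v]}
    (hω : Blo (Subgroup.zpowers v) ω i) {θ : Cfsg.IrrCharacter C[Subgroup.zpowers v]} {t : ℂ}
    (ht : ∀ s : C[Subgroup.zpowers v], ¬ p ∣ orderOf s →
      phi (χ : G → ℂ) v ω s = t * (θ : C[Subgroup.zpowers v] → ℂ) s) :
    tauBar χ v i = t * tauBar θ 1 (br (Subgroup.zpowers v) i) := by
  classical
  haveI := Fintype.ofFinite C[Subgroup.zpowers v]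
  have hp : IsPGroup p (Subgroup.zpowers v) := isPGroup_of_orderOf hv
  have hbr : br (Subgroup.zpowers v) i * br (Subgroup.zpowers v) i = br (Subgroup.zpowers v) i := by
    rw [← br_mul hp (mem_fx.mp hi) (mem_fx.mp hi), hii]
  obtain ⟨f, hf, hff, hfr⟩ :=
    exists_lift (M := M) (Q := (⊥ : Subgroup C[(Subgroup.zpowers v)])) (mem_fx_bot (br (Subgroup.zpowers v) i)) hbr
  set e' : MonoidAlgebra 𝒪 G := extHom 𝒪 C[(Subgroup.zpowers v)] f * eHat C[(Subgroup.zpowers v)] ω with he'
  have hc : Commute (extHom 𝒪 C[(Subgroup.zpowers v)] f) (eHat C[(Subgroup.zpowers v)] ω) :=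
    commute_of_support (fun g hg => coeff_extHom_of_notMem _ f hg) (eHat_mem_fx _ ω)
  have hee : e' * e' = e' := by
    rw [he', mul_assoc, ← mul_assoc (eHat C[(Subgroup.zpowers v)] ω), ← hc.eq, mul_assoc (extHom 𝒪 C[(Subgroup.zpowers v)] f),
      eHat_idem, ← mul_assoc, ← map_mul, hff]
  have hfe : extHom 𝒪 C[(Subgroup.zpowers v)] f ∈ fx 𝒪 (Subgroup.zpowers v) := by
    refine mem_fx.mpr fun u hu g => ?_
    by_cases hg : g ∈ C[(Subgroup.zpowers v)]
    · rw [hg u hu, mul_inv_cancel_right]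
    · rw [coeff_extHom_of_notMem _ _ hg, coeff_extHom_of_notMem]
      rwa [← mem_centralizer_conj_iff (Subgroup.le_normalizer hu) g]
  have hZC : (Subgroup.zpowers v) ≤ C[(Subgroup.zpowers v)] := by
    rw [Subgroup.zpowers_le, centralizer_zpowers, Subgroup.mem_centralizer_singleton_iff]
  have he'm : e' ∈ fx 𝒪 (Subgroup.zpowers v) := mul_mem hfe (fx_anti hZC (eHat_mem_fx _ ω))
  have hred : red M e' = brx (Subgroup.zpowers v) i := by
    rw [he', map_mul, red_eHat, ← hω, brx, ← hfr]
    congr 1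
    refine MonoidAlgebra.ext (Finsupp.ext fun g => ?_)
    rw [coeff_red]
    by_cases hg : g ∈ C[(Subgroup.zpowers v)]
    · rw [show g = ((⟨g, hg⟩ : C[(Subgroup.zpowers v)]) : G) from rfl, coeff_extHom, coeff_ext, coeff_red]
    · rw [coeff_extHom_of_notMem _ _ hg, coeff_ext_of_notMem _ _ hg, map_zero]
  have hbm : brx (Subgroup.zpowers v) i ∈ fx (Res M) (Subgroup.zpowers v) := StarChar.Support.brx_mem_fx Subgroup.le_normalizer hi
  have hbb : brx (Subgroup.zpowers v) i * brx (Subgroup.zpowers v) i = brx (Subgroup.zpowers v) i := by rw [← brx_mul hp hi hi, hii]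
  rw [tauBar_congr_brx hM χ hv hi hbm hii hbb (StarChar.Support.brx_brx le_rfl i).symm, ← hred,
    ← tauBar_eq χ (Subgroup.mem_zpowers v) he'm hee, ← hfr,
    ← tauBar_eq θ (one_mem _) hf hff, tau_one_eq]
  have hdec : toC (extHom 𝒪 C[(Subgroup.zpowers v)] f) =
      ∑ s : C[(Subgroup.zpowers v)], (toC f).coeff s • single (s : G) (1 : ℂ) := by
    refine MonoidAlgebra.ext (Finsupp.ext fun g => ?_)
    simp only [coeff_sum, Finsupp.finsetSum_apply, coeff_smul, Finsupp.smul_apply, coeff_single,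
      Finsupp.single_apply, smul_eq_mul, mul_ite, mul_one, mul_zero, toC, coeff_mapRingHom]
    by_cases hg : g ∈ C[(Subgroup.zpowers v)]
    · rw [Finset.sum_eq_single ⟨g, hg⟩ (fun b _ hb => if_neg fun e => hb (Subtype.ext e))
        (fun h => absurd (Finset.mem_univ _) h), if_pos rfl]
      exact congrArg _ (coeff_extHom (R := 𝒪) C[(Subgroup.zpowers v)] f ⟨g, hg⟩)
    · rw [coeff_extHom_of_notMem _ _ hg, map_zero]
      symm
      refine Finset.sum_eq_zero fun b _ => if_neg fun e => hg ?_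
      rw [← e]
      exact b.2
  have hphi : tau χ v e' = lin (phi (χ : G → ℂ) v ω) (toC f) := by
    rw [tau, ← toC, he', map_mul toC, hdec, Finset.sum_mul, Finset.mul_sum, map_sum, lin_apply]
    refine Finset.sum_congr rfl fun s _ => ?_
    rw [smul_mul_assoc, mul_smul_comm, map_smul, ← mul_assoc, single_mul_single, one_mul,
      lin_eq_phi, smul_eq_mul]
  have hdiff := lin_eq_zero_of_regular hM hff
    (F := fun s => phi (χ : G → ℂ) v ω s - t * (θ : C[(Subgroup.zpowers v)] → ℂ) s)
    (fun g h => by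
      show phi (χ : G → ℂ) v ω (h * g * h⁻¹) - t * (θ : C[(Subgroup.zpowers v)] → ℂ) (h * g * h⁻¹) = _
      simp only [phi]; rw [BlockPart.isClassFunction_blockPart (toSet ω) _ g h, isClassFunction_irr θ g h]
      )
    (fun s hs => by rw [ht s hs, sub_self])
  rw [hphi, ← sub_eq_zero, ← hdiff, lin_apply, lin_apply, lin_apply, Finset.mul_sum,
    ← Finset.sum_sub_distrib]
  exact Finset.sum_congr rfl fun s _ => by ring

end Cfsg.Agent.Lib.FreeAbelian.Eval
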