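import Mathlib
import Cfsg.Prelude.Def_Characters
import Cfsg.Agent.Lib.Characters.Basic
import Cfsg.Agent.Lib.Characters.Complete

/-!
# Gluing generalized characters over the non-trivial subgroups

If `g` is a function of subgroups such that for every `Q ≠ ⊥` the function `z ↦ g (Q ⊔ ⟨z⟩)` is a
generalized character, then `z ↦ g ⟨z⟩` on `z ≠ 1` is the restriction of a generalized character
(`exists_glue`): the alternating sum over the subgroups with the Möbius function of `⊥`.
-/

set_option autoImplicit false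
set_option linter.style.haveILetI false

namespace Cfsg.Agent.Lib.FreeAbelian

open Cfsg.Agent.Lib.Characters.Basic
open scoped ComplexConjugate

universe u

variable (D : Type u) [Group D] [Finite D]

/-- The ring of generalized characters. -/
def vchar : Subring (D → ℂ) where
  carrier := {f | Cfsg.IsGeneralizedCharacter D f}
  zero_mem' := ⟨0, 0, isCharacter_zero, isCharacter_zero, (sub_zero _).symm⟩
  one_mem' := ⟨1, 0, isCharacter_one, isCharacter_zero, (sub_zero _).symm⟩
  add_mem' := by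
    rintro _ _ ⟨a, b, ha, hb, rfl⟩ ⟨c, d, hc, hd, rfl⟩
    exact ⟨a + c, b + d, isCharacter_add ha hc, isCharacter_add hb hd, sub_add_sub_comm a b c d⟩
  neg_mem' := by
    rintro _ ⟨a, b, ha, hb, rfl⟩
    exact ⟨b, a, hb, ha, neg_sub a b⟩
  mul_mem' := by
    rintro _ _ ⟨a, b, ha, hb, rfl⟩ ⟨c, d, hc, hd, rfl⟩
    exact ⟨a * c + b * d, a * d + b * c, isCharacter_add (isCharacter_mul ha hc) (isCharacter_mul hb hd),
      isCharacter_add (isCharacter_mul ha hd) (isCharacter_mul hb hc), by ring⟩

theorem mem_vchar {f : D → ℂ} : f ∈ vchar D ↔ Cfsg.IsGeneralizedCharacter D f := Iff.rfl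

variable {D}

theorem mem_of_isCharacter {f : D → ℂ} (hf : Cfsg.IsCharacter D f) : f ∈ vchar D :=
  ⟨f, 0, hf, isCharacter_zero, (sub_zero _).symm⟩

/-- The total of a generalized character is a multiple of the order. -/
theorem exists_total [Fintype D] {f : D → ℂ} (hf : f ∈ vchar D) :
    ∃ n : ℤ, ∑ z, f z = (Fintype.card D : ℂ) * n := by
  obtain ⟨a, b, ha, hb, rfl⟩ := hf
  obtain ⟨m, hm⟩ := exists_classInner_nat ha isCharacter_one
  obtain ⟨n, hn⟩ := exists_classInner_nat hb isCharacter_one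
  refine ⟨(m : ℤ) - n, ?_⟩
  simp only [Cfsg.classInner, Pi.one_apply, map_one, mul_one, Nat.card_eq_fintype_card] at hm hn
  push_cast
  rw [← hm, ← hn, mul_sub, ← mul_assoc, ← mul_assoc,
    mul_inv_cancel₀ (Nat.cast_ne_zero.mpr Fintype.card_ne_zero), one_mul, one_mul,
    ← Finset.sum_sub_distrib]
  rfl

open scoped Classical in
/-- The Möbius function from the trivial subgroup. -/
noncomputable def mu : Subgroup D → ℤ :=
  wellFounded_lt.fix fun T r => if T = ⊥ then 1 else
    -∑ᶠ S : {S : Subgroup D // S < T}, r S.1 S.2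

open scoped Classical in
theorem sum_mu [Fintype (Subgroup D)] {T : Subgroup D} (hT : T ≠ ⊥) :
    ∑ S : Subgroup D with S ≤ T, mu S = 0 := by
  have h : mu T = -∑ S : Subgroup D with S < T, mu S := by
    conv_lhs => rw [mu, WellFounded.fix_eq, if_neg hT]
    rw [neg_inj, finsum_eq_sum_of_fintype]
    refine (Finset.sum_subtype (Finset.univ.filter fun S : Subgroup D => S < T)
      (fun S => by simp) mu).symm
  rw [show (Finset.univ.filter fun S : Subgroup D => S ≤ T) =
      insert T (Finset.univ.filter fun S : Subgroup D => S < T) by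
    ext S; simp [le_iff_lt_or_eq, or_comm],
    Finset.sum_insert (by simp), h, neg_add_cancel]

open scoped Classical in
/-- Weisner: the subgroups with a given join with `Z ≠ ⊥` have alternating total zero. -/
theorem sum_mu_sup [Fintype (Subgroup D)] {Z : Subgroup D} (hZ : Z ≠ ⊥) (T : Subgroup D) :
    ∑ S : Subgroup D with S ⊔ Z = T, mu S = 0 := by
  induction T using WellFoundedLT.induction with
  | ind T ih =>
  by_cases hZT : Z ≤ T
  swap
  · refine Finset.sum_eq_zero fun S hS => absurd ?_ hZT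
    exact (Finset.mem_filter.mp hS).2 ▸ le_sup_right
  have h1 : ∑ T' : Subgroup D with T' ≤ T, ∑ S : Subgroup D with S ⊔ Z = T', mu S = 0 := by
    rw [← sum_mu (fun e : T = ⊥ => hZ (le_bot_iff.mp (e ▸ hZT)))]
    refine Eq.trans ?_ (Finset.sum_fiberwise_of_maps_to
      (s := Finset.univ.filter fun S : Subgroup D => S ≤ T)
      (t := Finset.univ.filter fun T' : Subgroup D => T' ≤ T) (g := fun S => S ⊔ Z)
      (fun S hS => Finset.mem_filter.mpr ⟨Finset.mem_univ _,
        sup_le (Finset.mem_filter.mp hS).2 hZT⟩) mu)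
    refine Finset.sum_congr rfl fun T' hT' => Finset.sum_congr ?_ fun _ _ => rfl
    ext S
    simp only [Finset.mem_filter, Finset.mem_univ, true_and]
    refine ⟨fun h => ⟨le_trans (h ▸ le_sup_left) (Finset.mem_filter.mp hT').2, h⟩, fun h => h.2⟩
  rw [Finset.sum_eq_single T (fun T' hT' hne => ih T' (lt_of_le_of_ne
    (Finset.mem_filter.mp hT').2 hne)) (fun h => absurd (by simp) h)] at h1
  exact h1

theorem mu_bot : mu (⊥ : Subgroup D) = 1 := by
  rw [mu, WellFounded.fix_eq, if_pos rfl]

/-- **Gluing.** -/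
theorem exists_glue (g : Subgroup D → ℤ)
    (hg : ∀ Q : Subgroup D, Q ≠ ⊥ → (fun z => (g (Q ⊔ Subgroup.zpowers z) : ℂ)) ∈ vchar D) :
    ∃ h ∈ vchar D, ∀ z : D, z ≠ 1 → h z = (g (Subgroup.zpowers z) : ℂ) := by
  classical
  haveI := Fintype.ofFinite (Subgroup D)
  refine ⟨-∑ S ∈ (Finset.univ : Finset (Subgroup D)).erase ⊥, (mu S : D → ℂ) *
      fun z => (g (S ⊔ Subgroup.zpowers z) : ℂ), ?_, fun z hz => ?_⟩
  · refine neg_mem (sum_mem fun S hS => mul_mem ?_ (hg S (Finset.mem_erase.mp hS).1))
    exact intCast_mem (vchar D) _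
  have hZ : Subgroup.zpowers z ≠ ⊥ := fun e => hz (Subgroup.zpowers_eq_bot.mp e)
  have h0 : ∑ S : Subgroup D, mu S * g (S ⊔ Subgroup.zpowers z) = 0 := by
    rw [← Finset.sum_fiberwise Finset.univ (fun S : Subgroup D => S ⊔ Subgroup.zpowers z)]
    refine Finset.sum_eq_zero fun T _ => ?_
    rw [Finset.sum_congr rfl fun S hS => by rw [(Finset.mem_filter.mp hS).2], ← Finset.sum_mul,
      sum_mu_sup hZ, zero_mul]
  rw [← Finset.add_sum_erase Finset.univ _ (Finset.mem_univ ⊥), mu_bot, one_mul,
    bot_sup_eq] at h0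
  simp only [Pi.neg_apply, Finset.sum_apply, Pi.mul_apply, Pi.intCast_apply]
  have h2 : (g (Subgroup.zpowers z) : ℂ) +
      ∑ S ∈ (Finset.univ : Finset (Subgroup D)).erase ⊥, (mu S : ℂ) * (g (S ⊔ Subgroup.zpowers z) : ℂ) = 0 := by
    exact_mod_cast h0
  exact (eq_neg_of_add_eq_zero_left h2).symm

end Cfsg.Agent.Lib.FreeAbelian
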