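import Mathlib
import Cfsg.Agent.Lib.FreeAbelian.Glue
import Cfsg.Agent.Lib.H80.LinearChar
import Cfsg.Agent.Lib.SuzukiKernel.Layer
import Cfsg.Agent.Lib.BC78.PowChar
import Cfsg.Agent.Lib.StarChar.Nilpotent

/-!
# The sign of a rational character of an abelian 2-group with odd values

Such a character becomes constant modulo 4 after multiplication by a real linear character
(`exists_sign`).
-/

set_option autoImplicit false
set_option linter.style.haveILetI false
set_option linter.unusedSectionVars false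

namespace Cfsg.Agent.Lib.FreeAbelian

open Cfsg.Agent.Lib.Characters.Basic
open scoped ComplexConjugate

universe u

open scoped Classical in
/-- The rational part of a root of unity. -/
noncomputable def chiZ (x : ℂ) : ℤ := if x = 1 then 1 else if x = -1 then -1 else 0

/-- The average of the odd powers. -/
theorem sum_odd_pow (N : ℕ) {x : ℂ} (hx : x ^ 2 ^ (N + 1) = 1) :
    ∑ i ∈ Finset.range (2 ^ N), x ^ (2 * i + 1) = ((2 : ℂ) ^ N) * (chiZ x : ℂ) := by
  classical
  rw [chiZ]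
  split_ifs with h1 h2
  · simp [h1]
  · simp [h2, pow_succ, pow_mul]
  · have h3 : x ^ 2 ≠ 1 := fun h => (sq_eq_one_iff.mp h).elim h1 h2
    have h4 : ∑ i ∈ Finset.range (2 ^ N), (x ^ 2) ^ i = 0 := by
      rw [geom_sum_eq h3, ← pow_mul, ← pow_succ', hx, sub_self, zero_div]
    calc ∑ i ∈ Finset.range (2 ^ N), x ^ (2 * i + 1)
        = (∑ i ∈ Finset.range (2 ^ N), (x ^ 2) ^ i) * x := by
          rw [Finset.sum_mul]
          exact Finset.sum_congr rfl fun i _ => by rw [pow_succ, pow_mul]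
      _ = _ := by rw [h4]; simp

/-- The weight of a linear character for a pair of elements. -/
noncomputable def wz (x y : ℂ) : ℤ := 1 - chiZ x - chiZ y + chiZ (x * y)

theorem chiZ_one : chiZ 1 = 1 := by simp [chiZ]

theorem chiZ_neg_one : chiZ (-1) = -1 := by
  rw [chiZ, if_neg (by norm_num), if_pos rfl]

theorem chiZ_of_sq {x : ℂ} (h : x ^ 2 ≠ 1) : chiZ x = 0 := by
  rw [chiZ, if_neg (fun e => h (by rw [e, one_pow])), if_neg (fun e => h (by rw [e]; norm_num))]

theorem chiZ_cases {x : ℂ} (h : x ^ 2 = 1) : chiZ x = 1 ∧ x = 1 ∨ chiZ x = -1 ∧ x = -1 := by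
  rcases sq_eq_one_iff.mp h with rfl | rfl
  · exact Or.inl ⟨chiZ_one, rfl⟩
  · exact Or.inr ⟨chiZ_neg_one, rfl⟩

theorem chiZ_pow {x : ℂ} {c : ℕ} (hc : Odd c) {N : ℕ} (hx : x ^ 2 ^ N = 1) :
    chiZ (x ^ c) = chiZ x := by
  by_cases h : x ^ 2 = 1
  · rcases sq_eq_one_iff.mp h with rfl | rfl
    · rw [one_pow]
    · rw [hc.neg_one_pow]
  rw [chiZ_of_sq h, chiZ_of_sq]
  intro h'
  apply h
  rw [← pow_mul, mul_comm, pow_mul] at h'
  refine orderOf_eq_one_iff.mp (Nat.eq_one_of_dvd_coprimes (k := orderOf (x ^ 2)) ?_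
    (orderOf_dvd_of_pow_eq_one (x := x ^ 2) (n := c) h')
    (orderOf_dvd_of_pow_eq_one (x := x ^ 2) (n := 2 ^ N) (by rw [← pow_mul, mul_comm, pow_mul, hx,
      one_pow])))
  exact (Nat.coprime_two_right.mpr hc).pow_right N

theorem wz_sq {x y : ℂ} (hx : x ^ 2 = 1) (hy : y ^ 2 = 1) : (4 : ℤ) ∣ wz x y := by
  rcases sq_eq_one_iff.mp hx with rfl | rfl <;> rcases sq_eq_one_iff.mp hy with rfl | rfl <;>
    simp [wz, chiZ_one, chiZ_neg_one]

theorem wz_four {x y : ℂ} (hx : x ^ 4 = 1) (hy : y ^ 4 = 1) : (2 : ℤ) ∣ wz x y := by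
  by_cases h1 : x ^ 2 = 1
  · by_cases h2 : y ^ 2 = 1
    · exact dvd_trans (by norm_num) (wz_sq h1 h2)
    · have h3 : (x * y) ^ 2 ≠ 1 := by rwa [mul_pow, h1, one_mul]
      rw [wz, chiZ_of_sq h2, chiZ_of_sq h3]
      rcases chiZ_cases h1 with ⟨e, -⟩ | ⟨e, -⟩ <;> rw [e] <;> norm_num
  · by_cases h2 : y ^ 2 = 1
    · have h3 : (x * y) ^ 2 ≠ 1 := by rwa [mul_pow, h2, mul_one]
      rw [wz, chiZ_of_sq h1, chiZ_of_sq h3]
      rcases chiZ_cases h2 with ⟨e, -⟩ | ⟨e, -⟩ <;> rw [e] <;> norm_num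
    · have hx2 : x ^ 2 = -1 := by
        have : (x ^ 2) ^ 2 = 1 := by rw [← pow_mul]; exact hx
        exact (sq_eq_one_iff.mp this).resolve_left h1
      have hy2 : y ^ 2 = -1 := by
        have : (y ^ 2) ^ 2 = 1 := by rw [← pow_mul]; exact hy
        exact (sq_eq_one_iff.mp this).resolve_left h2
      have h3 : (x * y) ^ 2 = 1 := by rw [mul_pow, hx2, hy2]; norm_num
      rw [wz, chiZ_of_sq h1, chiZ_of_sq h2]
      rcases chiZ_cases h3 with ⟨e, -⟩ | ⟨e, -⟩ <;> rw [e] <;> norm_num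

/-- A sum of an invariant function over a set cut into classes is divisible when each class is. -/
theorem dvd_sum_of_classes {ι : Type*} [DecidableEq ι] (s : Finset ι) (f : ι → ℤ)
    (cls : ι → Finset ι) (hmem : ∀ i ∈ s, i ∈ cls i) (hsub : ∀ i ∈ s, cls i ⊆ s)
    (hcls : ∀ i ∈ s, ∀ j ∈ cls i, cls j = cls i) (hconst : ∀ i ∈ s, ∀ j ∈ cls i, f j = f i)
    (d : ℤ) (hd : ∀ i ∈ s, d ∣ ((cls i).card : ℤ) * f i) : d ∣ ∑ i ∈ s, f i := by
  rw [← Finset.sum_fiberwise_of_maps_to (t := s.image cls) (g := cls)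
    (fun i hi => Finset.mem_image_of_mem cls hi)]
  refine Finset.dvd_sum fun C hC => ?_
  obtain ⟨i, hi, rfl⟩ := Finset.mem_image.mp hC
  rw [show (s.filter fun j => cls j = cls i) = cls i from Finset.ext fun j => by
    rw [Finset.mem_filter]
    exact ⟨fun h => h.2 ▸ hmem j h.1, fun h => ⟨hsub i hi h, hcls i hi j h⟩⟩,
    Finset.sum_congr rfl (hconst i hi), Finset.sum_const, nsmul_eq_mul]
  exact hd i hi

variable {D : Type u} [Group D] [Finite D]

theorem deg_one (hab : ∀ x y : D, x * y = y * x) (lam : Cfsg.IrrCharacter D) :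
    (lam : D → ℂ) 1 = 1 := by
  haveI := Fintype.ofFinite D
  exact SuzukiKernel.degree_one_of_comm_trivial lam fun x y => by
    rw [commutatorElement_def, hab x y, mul_inv_cancel_right, mul_inv_cancel]

theorem apply_pow (hab : ∀ x y : D, x * y = y * x) (lam : Cfsg.IrrCharacter D) (z : D) (n : ℕ) :
    (lam : D → ℂ) (z ^ n) = (lam : D → ℂ) z ^ n := by
  induction n with
  | zero => rw [pow_zero, pow_zero, deg_one hab]
  | succ n ih => rw [pow_succ, H80.LinearChar.map_mul_of_deg_one lam (deg_one hab lam), ih, pow_succ]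

variable {N : ℕ} (hab : ∀ x y : D, x * y = y * x) (hN : ∀ z : D, z ^ 2 ^ (N + 1) = 1)
include hab hN

theorem apply_pow_two (lam : Cfsg.IrrCharacter D) (z : D) :
    (lam : D → ℂ) z ^ 2 ^ (N + 1) = 1 := by
  rw [← apply_pow hab, hN, deg_one hab]

omit hab in
theorem coprime_card_of_odd {c : ℕ} (hc : Odd c) : c.Coprime (Nat.card D) := by
  have hp : IsPGroup 2 D := fun z => ⟨N + 1, hN z⟩
  haveI : Fact (Nat.Prime 2) := ⟨Nat.prime_two⟩
  obtain ⟨k, hk⟩ := IsPGroup.iff_card.mp hp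
  rw [hk]
  exact (Nat.coprime_two_right.mpr hc).pow_right k

omit hab in
/-- The odd powers act on the linear characters. -/
noncomputable def pw {c : ℕ} (hc : Odd c) (lam : Cfsg.IrrCharacter D) : Cfsg.IrrCharacter D :=
  ⟨fun z => (lam : D → ℂ) (z ^ c),
    letI := Fintype.ofFinite D
    BC78.PowChar.isIrrCharacter_pow lam.2 (coprime_card_of_odd hN hc)⟩

omit hab in
theorem pw_apply {c : ℕ} (hc : Odd c) (lam : Cfsg.IrrCharacter D) (z : D) :
    (pw hN hc lam : D → ℂ) z = (lam : D → ℂ) (z ^ c) := rfl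

variable (R : D → ℤ) (hgal : ∀ (z : D) (c : ℕ), Odd c → R (z ^ c) = R z)
  (hr : (fun z => (R z : ℂ)) ∈ vchar D)
include hgal hr

/-- The fundamental congruence. -/
theorem four_dvd (a b : D) : (4 : ℤ) ∣ R 1 - R a - R b + R (a * b) := by
  classical
  haveI := Fintype.ofFinite D
  haveI := Fintype.ofFinite (Cfsg.IrrCharacter D)
  have hm : ∀ lam : Cfsg.IrrCharacter D,
      ∃ m : ℤ, Cfsg.classInner (fun z => (R z : ℂ)) lam = m := by
    intro lam
    exact StarChar.Nilpotent.exists_int_classInner hr (mem_of_isCharacter (isCharacter_irr lam))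
  choose m hm using hm
  have hexp : ∀ z, (R z : ℂ) = ∑ lam : Cfsg.IrrCharacter D, (m lam : ℂ) * (lam : D → ℂ) z := by
    intro z
    have h : Cfsg.IsClassFunction D (fun z => (R z : ℂ)) := fun g k => by
      show (R (k * g * k⁻¹) : ℂ) = _
      rw [hab k g, mul_inv_cancel_right]
    have := congrFun (Characters.Complete.classFunction_eq_sum h) z
    rw [Finset.sum_apply] at this
    exact this.trans (Finset.sum_congr rfl fun lam _ => by rw [Pi.smul_apply, smul_eq_mul, hm])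
  have hR : ∀ z, R z = ∑ lam : Cfsg.IrrCharacter D, m lam * chiZ ((lam : D → ℂ) z) := by
    intro z
    have h1 : ∑ i ∈ Finset.range (2 ^ N), (R (z ^ (2 * i + 1)) : ℂ) = (2 : ℂ) ^ N * R z := by
      simp [hgal z _ (odd_two_mul_add_one _)]
    simp only [hexp (z ^ _), apply_pow hab] at h1
    rw [Finset.sum_comm] at h1
    simp only [← Finset.mul_sum, sum_odd_pow N (apply_pow_two hab hN _ z), mul_left_comm _ ((2:ℂ)^N),
      ← Finset.mul_sum] at h1
    have h2 := mul_left_cancel₀ (pow_ne_zero N (two_ne_zero (α := ℂ))) h1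
    exact_mod_cast h2.symm
  have hmpw : ∀ (c : ℕ) (hc : Odd c) lam, m (pw hN hc lam) = m lam := by
    intro c hc lam
    apply Int.cast_injective (α := ℂ)
    rw [← hm, ← hm, Cfsg.classInner, Cfsg.classInner]
    congr 1
    refine Fintype.sum_equiv (powCoprime (coprime_card_of_odd hN hc).symm) _ _ fun z => ?_
    show (R z : ℂ) * conj ((lam : D → ℂ) (z ^ c)) = (R (z ^ c) : ℂ) * conj ((lam : D → ℂ) (z ^ c))
    rw [hgal z c hc]
  set f : Cfsg.IrrCharacter D → ℤ :=
    fun lam => m lam * wz ((lam : D → ℂ) a) ((lam : D → ℂ) b) with hf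
  have hsum : R 1 - R a - R b + R (a * b) = ∑ lam, f lam := by
    rw [hR 1, hR a, hR b, hR (a * b), ← Finset.sum_sub_distrib, ← Finset.sum_sub_distrib,
      ← Finset.sum_add_distrib]
    refine Finset.sum_congr rfl fun lam _ => ?_
    simp only [hf, wz, deg_one hab, chiZ_one, H80.LinearChar.map_mul_of_deg_one lam (deg_one hab lam)]
    ring
  have hfpw : ∀ (c : ℕ) (hc : Odd c) lam, f (pw hN hc lam) = f lam := by
    intro c hc lam
    simp only [hf, hmpw c hc, pw_apply, apply_pow hab, wz, ← mul_pow]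
    rw [chiZ_pow hc (apply_pow_two hab hN lam a), chiZ_pow hc (apply_pow_two hab hN lam b),
      chiZ_pow hc (N := N + 1) (by
        rw [mul_pow, apply_pow_two hab hN, apply_pow_two hab hN, one_mul])]
  -- the exponent of a character
  have hex : ∀ lam : Cfsg.IrrCharacter D, ∃ k, ∀ z, (lam : D → ℂ) z ^ 2 ^ k = 1 :=
    fun lam => ⟨N + 1, apply_pow_two hab hN lam⟩
  let ex : Cfsg.IrrCharacter D → ℕ := fun lam => Nat.find (hex lam)
  have hexpw : ∀ (c : ℕ) (hc : Odd c) lam, ex (pw hN hc lam) = ex lam := by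
    intro c hc lam
    refine Nat.find_congr' fun {k} => ?_
    simp only [pw_apply]
    refine ⟨fun h z => ?_, fun h z => h _⟩
    obtain ⟨y, rfl⟩ := (powCoprime (coprime_card_of_odd hN hc).symm).surjective z
    exact h y
  let c0 : Cfsg.IrrCharacter D → ℕ := fun lam => 1 + 2 ^ (ex lam - 1)
  let cs : Cfsg.IrrCharacter D → Finset ℕ := fun lam =>
    {1, 2 ^ ex lam - 1, c0 lam, c0 lam * (2 ^ ex lam - 1)}
  rw [hsum, ← Finset.sum_filter_add_sum_filter_not Finset.univ (fun lam => ex lam ≤ 1)]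
  refine dvd_add (Finset.dvd_sum fun lam hl => ?_) ?_
  · have h : ∀ z, (lam : D → ℂ) z ^ 2 = 1 := fun z => by
      have h1 := Nat.find_spec (hex lam) z
      have h2 : ex lam ≤ 1 := (Finset.mem_filter.mp hl).2
      rcases Nat.le_one_iff_eq_zero_or_eq_one.mp h2 with e | e <;>
        simp only [ex] at e <;> rw [e] at h1
      · rw [pow_zero, pow_one] at h1
        rw [h1, one_pow]
      · rwa [pow_one] at h1
    exact Dvd.dvd.mul_left (wz_sq (h a) (h b)) _
  -- classes of the remaining characters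
  have hpweq : ∀ (lam : Cfsg.IrrCharacter D) (c c' : ℕ) (hc : Odd c) (hc' : Odd c'),
      c ≡ c' [MOD 2 ^ ex lam] → pw hN hc lam = pw hN hc' lam := by
    intro lam c c' hc hc' h
    refine Subtype.ext (funext fun z => ?_)
    show (lam : D → ℂ) (z ^ c) = (lam : D → ℂ) (z ^ c')
    rw [apply_pow hab, apply_pow hab, (isOfFinOrder_iff_pow_eq_one.mpr
      ⟨2 ^ ex lam, Nat.two_pow_pos _, Nat.find_spec (hex lam) z⟩).pow_eq_pow_iff_modEq]
    exact h.of_dvd (orderOf_dvd_of_pow_eq_one (Nat.find_spec (hex lam) z))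
  have hprim : ∀ lam : Cfsg.IrrCharacter D, 1 ≤ ex lam →
      ∃ z, orderOf ((lam : D → ℂ) z) = 2 ^ ex lam := by
    intro lam h1
    by_contra hno
    push Not at hno
    refine Nat.find_min (hex lam) (show ex lam - 1 < ex lam by omega) fun z => ?_
    obtain ⟨j, hj, hj'⟩ := (Nat.dvd_prime_pow Nat.prime_two).mp
      (orderOf_dvd_of_pow_eq_one (Nat.find_spec (hex lam) z))
    have : j < ex lam := lt_of_le_of_ne hj fun e => hno z (e ▸ hj')
    exact orderOf_dvd_iff_pow_eq_one.mp (hj' ▸ pow_dvd_pow 2 (by omega))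
  let cls : Cfsg.IrrCharacter D → Finset (Cfsg.IrrCharacter D) := fun lam =>
    Finset.univ.filter fun mu => ∃ c ∈ cs lam, ∃ hc : Odd c, pw hN hc lam = mu
  have hodd : ∀ lam : Cfsg.IrrCharacter D, 2 ≤ ex lam →
      Odd (2 ^ ex lam - 1) ∧ Odd (c0 lam) ∧ Odd (c0 lam * (2 ^ ex lam - 1)) := by
    intro lam h
    have h1 : Even (2 ^ ex lam) := (Nat.even_pow).mpr ⟨even_two, by omega⟩
    have h2 : Odd (2 ^ ex lam - 1) := Nat.Even.sub_odd Nat.one_le_two_pow h1 odd_one
    have h3 : Odd (c0 lam) := by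
      show Odd (1 + 2 ^ (ex lam - 1))
      exact Odd.add_even odd_one ((Nat.even_pow).mpr ⟨even_two, by omega⟩)
    exact ⟨h2, h3, h3.mul h2⟩
  -- products of the exponents
  have hmul : ∀ lam : Cfsg.IrrCharacter D, 2 ≤ ex lam → ∀ c ∈ cs lam, ∀ c' ∈ cs lam,
      ∃ c'' ∈ cs lam, c * c' ≡ c'' [MOD 2 ^ ex lam] := by
    intro lam h c hc c' hc'
    obtain ⟨j, hj⟩ : ∃ j, ex lam = j + 2 := ⟨ex lam - 2, by omega⟩
    have hn : ((2 ^ ex lam - 1 : ℕ) : ZMod (2 ^ ex lam)) = -1 := by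
      rw [Nat.cast_sub Nat.one_le_two_pow, ZMod.natCast_self, Nat.cast_one, zero_sub]
    have hc0 : ((c0 lam : ℕ) : ZMod (2 ^ ex lam)) * (c0 lam : ℕ) = 1 := by
      rw [← Nat.cast_mul, ← Nat.cast_one (R := ZMod (2 ^ ex lam)), ZMod.natCast_eq_natCast_iff]
      show (1 + 2 ^ (ex lam - 1)) * (1 + 2 ^ (ex lam - 1)) ≡ 1 [MOD 2 ^ ex lam]
      have e : (1 + 2 ^ (ex lam - 1)) * (1 + 2 ^ (ex lam - 1)) =
          1 + 2 ^ ex lam * (1 + 2 ^ j) := by
        rw [hj, show j + 2 - 1 = j + 1 by omega]; ring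
      rw [e]
      exact Nat.ModEq.symm ((Nat.modEq_iff_dvd' (Nat.le_add_right _ _)).mpr
        (by rw [Nat.add_sub_cancel_left]; exact dvd_mul_right _ _))
    have key : ∀ c'' : ℕ, ((c : ℕ) : ZMod (2 ^ ex lam)) * (c' : ℕ) = (c'' : ℕ) →
        c * c' ≡ c'' [MOD 2 ^ ex lam] := fun c'' e => by
      rw [← ZMod.natCast_eq_natCast_iff, Nat.cast_mul]; exact e
    simp only [cs, Finset.mem_insert, Finset.mem_singleton] at hc hc' ⊢
    rcases hc with rfl | rfl | rfl | rfl <;> rcases hc' with rfl | rfl | rfl | rfl <;>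
      first
        | (refine ⟨_, Or.inl rfl, key _ ?_⟩
           try simp only [Nat.cast_mul, hn, Nat.cast_one]
           all_goals first | ring1 | linear_combination hc0 | linear_combination -hc0)
        | (refine ⟨_, Or.inr (Or.inl rfl), key _ ?_⟩
           try simp only [Nat.cast_mul, hn, Nat.cast_one]
           all_goals first | ring1 | linear_combination hc0 | linear_combination -hc0)
        | (refine ⟨_, Or.inr (Or.inr (Or.inl rfl)), key _ ?_⟩
           try simp only [Nat.cast_mul, hn, Nat.cast_one]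
           all_goals first | ring1 | linear_combination hc0 | linear_combination -hc0)
        | (refine ⟨_, Or.inr (Or.inr (Or.inr rfl)), key _ ?_⟩
           try simp only [Nat.cast_mul, hn, Nat.cast_one]
           all_goals first | ring1 | linear_combination hc0 | linear_combination -hc0)
  have hodd' : ∀ lam : Cfsg.IrrCharacter D, 2 ≤ ex lam → ∀ c ∈ cs lam, Odd c := by
    intro lam h c hc
    obtain ⟨h1, h2, h3⟩ := hodd lam h
    simp only [cs, Finset.mem_insert, Finset.mem_singleton] at hc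
    rcases hc with rfl | rfl | rfl | rfl <;> first | exact odd_one | assumption
  have hone : ∀ lam : Cfsg.IrrCharacter D, 2 ≤ ex lam → ∀ c ∈ cs lam,
      c * c ≡ 1 [MOD 2 ^ ex lam] := by
    intro lam h c hc
    obtain ⟨j, hj⟩ : ∃ j, ex lam = j + 2 := ⟨ex lam - 2, by omega⟩
    have h2 : (2 ^ ex lam : ℕ) = 2 ^ (ex lam - 1) * 2 := by
      rw [← pow_succ]; congr 1; omega
    have hn : ((2 ^ ex lam - 1 : ℕ) : ZMod (2 ^ ex lam)) = -1 := by
      rw [Nat.cast_sub Nat.one_le_two_pow, ZMod.natCast_self, Nat.cast_one, zero_sub]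
    have hc0 : ((c0 lam : ℕ) : ZMod (2 ^ ex lam)) * (c0 lam : ℕ) = 1 := by
      rw [← Nat.cast_mul, ← Nat.cast_one (R := ZMod (2 ^ ex lam)), ZMod.natCast_eq_natCast_iff]
      show (1 + 2 ^ (ex lam - 1)) * (1 + 2 ^ (ex lam - 1)) ≡ 1 [MOD 2 ^ ex lam]
      have e : (1 + 2 ^ (ex lam - 1)) * (1 + 2 ^ (ex lam - 1)) =
          1 + 2 ^ ex lam * (1 + 2 ^ j) := by
        rw [hj, show j + 2 - 1 = j + 1 by omega]; ring
      rw [e]
      exact Nat.ModEq.symm ((Nat.modEq_iff_dvd' (Nat.le_add_right _ _)).mpr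
        (by rw [Nat.add_sub_cancel_left]; exact dvd_mul_right _ _))
    rw [← ZMod.natCast_eq_natCast_iff, Nat.cast_mul, Nat.cast_one]
    simp only [cs, Finset.mem_insert, Finset.mem_singleton] at hc
    rcases hc with rfl | rfl | rfl | rfl <;> try simp only [Nat.cast_mul, hn, Nat.cast_one]
    · ring
    · ring
    · exact hc0
    · linear_combination hc0
  refine dvd_sum_of_classes _ f cls ?_ ?_ ?_ ?_ 4 ?_
  · intro lam _
    refine Finset.mem_filter.mpr ⟨Finset.mem_univ _, 1, by simp [cs], odd_one, ?_⟩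
    exact Subtype.ext (funext fun z => by rw [pw_apply, pow_one])
  · intro lam hl mu hmu
    obtain ⟨c, -, hc, rfl⟩ := (Finset.mem_filter.mp hmu).2
    refine Finset.mem_filter.mpr ⟨Finset.mem_univ _, ?_⟩
    rw [hexpw]
    exact (Finset.mem_filter.mp hl).2
  · intro lam hl mu hmu
    have h2 : 2 ≤ ex lam := by have := (Finset.mem_filter.mp hl).2; omega
    obtain ⟨c, hcm, hc, rfl⟩ := (Finset.mem_filter.mp hmu).2
    have hcs : cs (pw hN hc lam) = cs lam := by simp only [cs, c0, hexpw]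
    ext nu
    simp only [cls, Finset.mem_filter, Finset.mem_univ, true_and, hcs]
    have hcomp : ∀ (c' : ℕ) (hc' : Odd c'), pw hN hc' (pw hN hc lam) = pw hN (hc'.mul hc) lam :=
      fun c' hc' => Subtype.ext (funext fun z => by
        show (lam : D → ℂ) ((z ^ c') ^ c) = (lam : D → ℂ) (z ^ (c' * c))
        rw [← pow_mul])
    constructor
    · rintro ⟨c', hc'm, hc', rfl⟩
      obtain ⟨c'', hc''m, he⟩ := hmul lam h2 c' hc'm c hcm
      exact ⟨c'', hc''m, hodd' lam h2 c'' hc''m, by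
        rw [hcomp]; exact (hpweq lam _ _ _ _ he).symm⟩
    · rintro ⟨c', hc'm, hc', rfl⟩
      obtain ⟨c'', hc''m, he⟩ := hmul lam h2 c' hc'm c hcm
      refine ⟨c'', hc''m, hodd' lam h2 c'' hc''m, ?_⟩
      rw [hcomp]
      refine hpweq lam _ _ _ _ ?_
      calc c'' * c ≡ c' * c * c [MOD 2 ^ ex lam] := (Nat.ModEq.mul_right c he).symm
        _ = c' * (c * c) := mul_assoc _ _ _
        _ ≡ c' * 1 [MOD 2 ^ ex lam] := Nat.ModEq.mul_left c' (hone lam h2 c hcm)
        _ = c' := mul_one c'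
  · intro lam _ mu hmu
    obtain ⟨c, -, hc, rfl⟩ := (Finset.mem_filter.mp hmu).2
    exact hfpw c hc lam
  · intro lam hl
    have h2 : 2 ≤ ex lam := by have := (Finset.mem_filter.mp hl).2; omega
    obtain ⟨z, hz⟩ := hprim lam (by omega)
    obtain ⟨ho1, ho2, ho3⟩ := hodd lam h2
    have hne : ∀ (c c' : ℕ) (hc : Odd c) (hc' : Odd c'), pw hN hc lam = pw hN hc' lam →
        c ≡ c' [MOD 2 ^ ex lam] := by
      intro c c' hc hc' e
      have := congrFun (congrArg Subtype.val e) z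
      simp only [pw_apply, apply_pow hab] at this
      rw [(isOfFinOrder_iff_pow_eq_one.mpr
        ⟨2 ^ ex lam, Nat.two_pow_pos _, Nat.find_spec (hex lam) z⟩).pow_eq_pow_iff_modEq, hz] at this
      exact this
    have hn1 : ¬ (1 : ℕ) ≡ 2 ^ ex lam - 1 [MOD 2 ^ ex lam] := by
      intro h
      have h3 : (4 : ℕ) ≤ 2 ^ ex lam :=
        le_trans (by norm_num) (Nat.pow_le_pow_right two_pos h2)
      rw [Nat.ModEq, Nat.mod_eq_of_lt (by omega), Nat.mod_eq_of_lt (by omega)] at h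
      omega
    by_cases h3 : ex lam = 2
    · have hsub : ({pw hN odd_one lam, pw hN ho1 lam} : Finset _) = cls lam := by
        ext mu
        simp only [cls, cs, Finset.mem_insert, Finset.mem_singleton, Finset.mem_filter,
          Finset.mem_univ, true_and, exists_eq_or_imp, exists_eq_left]
        constructor
        · rintro (rfl | rfl)
          · exact Or.inl ⟨odd_one, rfl⟩
          · exact Or.inr (Or.inl ⟨ho1, rfl⟩)
        · rintro (⟨_, rfl⟩ | ⟨_, rfl⟩ | ⟨_, rfl⟩ | ⟨_, rfl⟩)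
          · exact Or.inl rfl
          · exact Or.inr rfl
          · right
            refine hpweq lam _ _ _ _ ?_
            show 1 + 2 ^ (ex lam - 1) ≡ 2 ^ ex lam - 1 [MOD 2 ^ ex lam]
            rw [h3]; decide
          · left
            refine hpweq lam _ _ _ _ ?_
            show (1 + 2 ^ (ex lam - 1)) * (2 ^ ex lam - 1) ≡ 1 [MOD 2 ^ ex lam]
            rw [h3]; decide
      rw [← hsub, Finset.card_pair fun e => hn1 (hne _ _ _ _ e)]
      have h4 : ∀ z, (lam : D → ℂ) z ^ 4 = 1 := fun z => by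
        have := Nat.find_spec (hex lam) z
        simp only [ex] at h3
        rw [h3] at this
        exact this
      rw [show (4 : ℤ) = ((2 : ℕ) : ℤ) * 2 by norm_num]
      exact mul_dvd_mul_left _ (Dvd.dvd.mul_left (wz_four (h4 a) (h4 b)) _)
    · refine Dvd.dvd.mul_right ?_ _
      have hsub : ({pw hN odd_one lam, pw hN ho1 lam, pw hN ho2 lam, pw hN ho3 lam} : Finset _) =
          cls lam := by
        ext mu
        simp only [cls, cs, Finset.mem_insert, Finset.mem_singleton, Finset.mem_filter,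
          Finset.mem_univ, true_and, exists_eq_or_imp, exists_eq_left]
        constructor
        · rintro (rfl | rfl | rfl | rfl)
          exacts [Or.inl ⟨odd_one, rfl⟩, Or.inr (Or.inl ⟨ho1, rfl⟩),
            Or.inr (Or.inr (Or.inl ⟨ho2, rfl⟩)), Or.inr (Or.inr (Or.inr ⟨ho3, rfl⟩))]
        · rintro (⟨_, rfl⟩ | ⟨_, rfl⟩ | ⟨_, rfl⟩ | ⟨_, rfl⟩)
          exacts [Or.inl rfl, Or.inr (Or.inl rfl), Or.inr (Or.inr (Or.inl rfl)),
            Or.inr (Or.inr (Or.inr rfl))]
      obtain ⟨j, hj⟩ : ∃ j, ex lam = j + 3 := ⟨ex lam - 3, by omega⟩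
      have hP : 2 ^ ex lam = 8 * 2 ^ j := by rw [hj, pow_add]; ring
      have hQ : c0 lam = 1 + 4 * 2 ^ j := by
        show 1 + 2 ^ (ex lam - 1) = _
        rw [hj, show j + 3 - 1 = j + 2 by omega, pow_add]; ring
      have hpos : 1 ≤ 2 ^ j := Nat.one_le_two_pow
      have hprod : c0 lam * (2 ^ ex lam - 1) ≡ 4 * 2 ^ j - 1 [MOD 2 ^ ex lam] := by
        rw [← ZMod.natCast_eq_natCast_iff, Nat.cast_mul,
          Nat.cast_sub Nat.one_le_two_pow, ZMod.natCast_self, Nat.cast_sub (by omega), hQ]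
        have h8 : ((8 * 2 ^ j : ℕ) : ZMod (2 ^ ex lam)) = 0 := by rw [← hP, ZMod.natCast_self]
        push_cast at h8 ⊢
        linear_combination -h8
      have d1 : ¬ (1 : ℕ) ≡ c0 lam [MOD 2 ^ ex lam] := by
        rw [Nat.ModEq, Nat.mod_eq_of_lt (by omega), Nat.mod_eq_of_lt (by omega)]; omega
      have d2 : ¬ 2 ^ ex lam - 1 ≡ c0 lam [MOD 2 ^ ex lam] := by
        rw [Nat.ModEq, Nat.mod_eq_of_lt (by omega), Nat.mod_eq_of_lt (by omega)]; omega
      have d3 : ¬ (1 : ℕ) ≡ c0 lam * (2 ^ ex lam - 1) [MOD 2 ^ ex lam] := fun h => by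
        have := h.trans hprod
        rw [Nat.ModEq, Nat.mod_eq_of_lt (by omega), Nat.mod_eq_of_lt (by omega)] at this; omega
      have d4 : ¬ 2 ^ ex lam - 1 ≡ c0 lam * (2 ^ ex lam - 1) [MOD 2 ^ ex lam] := fun h => by
        have := h.trans hprod
        rw [Nat.ModEq, Nat.mod_eq_of_lt (by omega), Nat.mod_eq_of_lt (by omega)] at this; omega
      have d5 : ¬ c0 lam ≡ c0 lam * (2 ^ ex lam - 1) [MOD 2 ^ ex lam] := fun h => by
        have := h.trans hprod
        rw [Nat.ModEq, Nat.mod_eq_of_lt (by omega), Nat.mod_eq_of_lt (by omega)] at this; omega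
      rw [← hsub, Finset.card_insert_of_notMem, Finset.card_insert_of_notMem, Finset.card_pair]
      · norm_num
      · exact fun e => d5 (hne _ _ _ _ e)
      · simp only [Finset.mem_insert, Finset.mem_singleton, not_or]
        exact ⟨fun e => d2 (hne _ _ _ _ e), fun e => d4 (hne _ _ _ _ e)⟩
      · simp only [Finset.mem_insert, Finset.mem_singleton, not_or]
        exact ⟨fun e => hn1 (hne _ _ _ _ e), fun e => d1 (hne _ _ _ _ e),
          fun e => d3 (hne _ _ _ _ e)⟩

/-- **The sign.** -/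
theorem exists_sign (hodd : ∀ z, Odd (R z)) :
    ∃ κ : D →* ℤ, (∀ z, κ z = 1 ∨ κ z = -1) ∧ ∀ z, (4 : ℤ) ∣ κ z * R z - R 1 := by
  classical
  let k : D → ℤ := fun z => if (4 : ℤ) ∣ R z - R 1 then 1 else -1
  have hk : ∀ z, (4 : ℤ) ∣ k z * R z - R 1 := fun z => by
    obtain ⟨x, hx⟩ := hodd z
    obtain ⟨y, hy⟩ := hodd 1
    simp only [k]
    split_ifs <;> omega
  refine ⟨{ toFun := k, map_one' := if_pos (by simp), map_mul' := fun a b => ?_ }, ?_, hk⟩
  · have h := four_dvd hab hN R hgal hr a b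
    obtain ⟨x, hx⟩ := hodd a
    obtain ⟨y, hy⟩ := hodd b
    obtain ⟨w, hw⟩ := hodd (a * b)
    obtain ⟨v, hv⟩ := hodd 1
    simp only [k]
    split_ifs <;> omega
  · intro z
    show k z = 1 ∨ k z = -1
    simp only [k]
    split_ifs
    exacts [Or.inl rfl, Or.inr rfl]

end Cfsg.Agent.Lib.FreeAbelian
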