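import Cfsg.Agent.Lib.StarChar.AbelianSection
import Cfsg.Agent.Lib.BrauerPairs.RankAbelian
import Cfsg.Agent.Lib.FreeAbelian.Sign

/-!
# The characters of a nilpotent block with abelian defect group

They agree on the regular elements (`agree`), all have height zero (`vdeg_eq`), and their parts on
the sections have the smallest possible norm (`phiSum_self`, `regSum_self`).
-/

set_option autoImplicit false
set_option linter.style.haveILetI false
set_option linter.unusedSectionVars false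

namespace Cfsg.Agent.Lib.FreeAbelian.Nilp

open MonoidAlgebra
open scoped ComplexConjugate
open Cfsg.Agent.Lib.Blocks Cfsg.Agent.Lib.Blocks.Contrib
open Cfsg.Agent.Lib.BrauerPairs.Center Cfsg.Agent.Lib.BrauerPairs.Pairs
open Cfsg.Agent.Lib.BrauerPairs.Maximal Cfsg.Agent.Lib.BrauerPairs.Bridge
open Cfsg.Agent.Lib.BrauerPairs.Fusion Cfsg.Agent.Lib.BrauerPairs.Local
open Cfsg.Agent.Lib.StarChar.NilpotentPairing (phiSum phiSum_eq blkAt)
open Cfsg.Agent.Lib.Characters.Basic

universe u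

attribute [local instance] Ideal.Quotient.field

variable {M : Ideal Cfsg.AlgInt} [M.IsMaximal] {G : Type u} [Group G] [Fintype G]
  {p : ℕ} [Fact p.Prime] [CharP (Res M) p]

local notation "C[" P "]" => Subgroup.centralizer ((P : Subgroup G) : Set G)

variable {b : Idx (Res M) G} {ψ : Blk (Res M) G} (hM : Cfsg.IsPModular p M) (hb : Top p b)
  (hψ : PairOf p ψ b) (hab : ∀ x ∈ b.1, ∀ y ∈ b.1, x * y = y * x) (hnil : Nilp p ψ)

include hM hb hψ hab hnil

/-- The characters of the block agree on the regular elements. -/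
theorem agree {θ θ' : Cfsg.IrrCharacter G} (hθ : θ ∈ toSet ψ) (hθ' : θ' ∈ toSet ψ) {s : G}
    (hs : ¬ p ∣ orderOf s) : (θ : G → ℂ) s = (θ' : G → ℂ) s := by
  have hB : Cfsg.IsPBlock M (toSet ψ) := isPBlock_toSet ψ
  have e : blk hB = ψ := blk_toSet ψ hB
  obtain ⟨χ₀, hχ₀, h0⟩ := exists_height_zero (p := p) hB
  obtain ⟨Φ, hΦ⟩ := StarChar.Nilpotent.exists_equiv (hB := hB) hM hb (by rwa [e]) (by rwa [e])
    hχ₀ h0
  have key : ∀ θ (hθ : θ ∈ toSet ψ), (θ : G → ℂ) s = (χ₀ : G → ℂ) s := by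
    intro θ hθ
    have h := hΦ (Φ.symm ⟨θ, hθ⟩)
    rw [Equiv.apply_symm_apply] at h
    rw [show (θ : G → ℂ) = _ from h, StarChar.Nilpotent.star_regular χ₀ _ hs,
      Cfsg.Agent.Lib.FreeAbelian.deg_one (D := b.1) (fun x y => Subtype.ext (hab _ x.2 _ y.2)), one_mul]
  rw [key θ hθ, key θ' hθ']

/-- All characters have height zero. -/
theorem vdeg_eq {θ : Cfsg.IrrCharacter G} (hθ : θ ∈ toSet ψ) :
    vdeg p θ = minVdeg p (toSet ψ) := by
  obtain ⟨χ₀, hχ₀, h0⟩ := exists_height_zero (p := p) (isPBlock_toSet ψ)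
  have h := agree hM hb hψ hab hnil hθ hχ₀ (s := 1)
    (by rw [orderOf_one]; exact (Fact.out : p.Prime).not_dvd_one)
  rw [(H80.ClassMult.deg_spec θ).2, (H80.ClassMult.deg_spec χ₀).2, Nat.cast_inj] at h
  rw [← h0, vdeg, vdeg, h]

/-- The norm of the part on a section. -/
theorem phiSum_self {θ : Cfsg.IrrCharacter G} (hθ : θ ∈ toSet ψ) (u : b.1) :
    phiSum p θ θ (u : G) (blkAt hb.1 u) =
      (Nat.card C[Subgroup.zpowers (u : G)] : ℂ) / (Nat.card b.1 : ℂ) := by
  have hB : Cfsg.IsPBlock M (toSet ψ) := isPBlock_toSet ψ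
  have e : blk hB = ψ := blk_toSet ψ hB
  letI := Fintype.ofFinite b.1
  have h := StarChar.Nilpotent.card_mul_wt (hB := hB) hM hb (by rwa [e]) (by rwa [e]) hθ
    (vdeg_eq hM hb hψ hab hnil hθ) u
  have h1 : Nat.card {w : b.1 // IsConj u w} = 1 := by
    rw [Nat.card_eq_one_iff_unique]
    refine ⟨⟨fun a c => ?_⟩, ⟨⟨u, IsConj.refl u⟩⟩⟩
    have key : ∀ w : b.1, IsConj u w → w = u := fun w hw => by
      obtain ⟨v, hv⟩ := isConj_iff.mp hw
      rw [← hv, show v * u = u * v from Subtype.ext (hab _ v.2 _ u.2), mul_inv_cancel_right]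
    exact Subtype.ext ((key _ a.2).trans (key _ c.2).symm)
  rw [StarChar.NilpotentPairing.wt, h1, Nat.cast_one, one_mul, ← Nat.card_eq_fintype_card] at h
  have hC : (Nat.card C[Subgroup.zpowers (u : G)] : ℂ) ≠ 0 :=
    Nat.cast_ne_zero.mpr Nat.card_pos.ne'
  have hD : (Nat.card b.1 : ℂ) ≠ 0 := Nat.cast_ne_zero.mpr Nat.card_pos.ne'
  rw [eq_div_iff hD]
  field_simp at h
  linear_combination h

/-- The norm on the regular elements. -/
theorem regSum_self {θ : Cfsg.IrrCharacter G} (hθ : θ ∈ toSet ψ) :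
    regSum p (θ : G → ℂ) (θ : G → ℂ) = (Nat.card G : ℂ) / (Nat.card b.1 : ℂ) := by
  letI := Fintype.ofFinite b.1
  have h := StarChar.AbelianSection.gram_one hb hψ hab hM (mem_toSet.mp hθ) θ
  have hE : (Nat.card (BrauerPairs.Fusion.autHom b).range : ℂ) ≠ 0 :=
    Nat.cast_ne_zero.mpr Nat.card_pos.ne'
  have hC : (Subgroup.centralizer ((Subgroup.zpowers ((1 : b.1) : G) : Subgroup G) : Set G)) = ⊤ := by
    rw [eq_top_iff]
    intro g _
    rw [StarChar.Theta.centralizer_zpowers, Subgroup.mem_centralizer_singleton_iff]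
    simp
  rw [StarChar.AbelianSection.gram, StarChar.AbelianSection.wt_one,
    phiSum_self hM hb hψ hab hnil hθ 1, hC, Subgroup.card_top] at h
  rw [regSum_eq_contribN, natCast_card_eq p G] at *
  have hD : (Nat.card b.1 : ℂ) ≠ 0 := Nat.cast_ne_zero.mpr Nat.card_pos.ne'
  have hp0 : (p : ℂ) ^ (Nat.card G).factorization p ≠ 0 :=
    pow_ne_zero _ (Nat.cast_ne_zero.mpr (Fact.out : p.Prime).ne_zero)
  have hm : (primeToCard p G : ℂ) ≠ 0 := Nat.cast_ne_zero.mpr (primeToCard_pos p).ne'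
  field_simp at h
  rw [eq_div_iff hD]
  linear_combination -(primeToCard p G : ℂ) * h

end Cfsg.Agent.Lib.FreeAbelian.Nilp
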