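import Cfsg.Agent.Lib.FreeAbelian.Eval
import Cfsg.Agent.Lib.FreeAbelian.Nilp
import Cfsg.Agent.Lib.FreeAbelian.Glue
import Cfsg.Agent.Lib.Watanabe.BlkIn

/-!
# The local blocks below a maximal pair with abelian subgroup

`Uni ω`: the characters of `ω` agree on the regular elements.  Then the part of `χ` in `ω` is
`tco χ v ω` times one of them (`phi_eq`, `tauBar_eq`, `phiSum_tco`).  This holds for the blocks of
`C(T)` below the pair when only `C(P)` of the stabilizer centralises `T` (`facts_om`); inside `C(Q)`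
the coefficient has modulus one and gives a generalized character of the defect group
(`exists_row`).
-/

set_option autoImplicit false
set_option linter.style.haveILetI false
set_option linter.unusedSectionVars false

namespace Cfsg.Agent.Lib.FreeAbelian.Local

open MonoidAlgebra
open scoped ComplexConjugate
open Cfsg.Agent.Lib.Blocks
open Cfsg.Agent.Lib.Blocks.SectionPart Cfsg.Agent.Lib.Blocks.SectionMatrix
open Cfsg.Agent.Lib.Blocks.Contrib (bset mem_bset regSum regSum_eq_sum)
open Cfsg.Agent.Lib.BrauerPairs.Fusion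
open Cfsg.Agent.Lib.BrauerMap.Basic
open Cfsg.Agent.Lib.BrauerPairs.Center Cfsg.Agent.Lib.BrauerPairs.Trunc
open Cfsg.Agent.Lib.BrauerPairs.Conj
open Cfsg.Agent.Lib.BrauerPairs.Pairs Cfsg.Agent.Lib.BrauerPairs.Bridge
open Cfsg.Agent.Lib.BrauerPairs.Maximal Cfsg.Agent.Lib.BrauerPairs.Embed
open Cfsg.Agent.Lib.BrauerPairs.Local
open Cfsg.Agent.Lib.StarChar.Fixed Cfsg.Agent.Lib.StarChar.Theta
open Cfsg.Agent.Lib.StarChar.Section
open Cfsg.Agent.Lib.StarChar.NilpotentPairing (phiSum phiSum_eq blkAt le_blkAt eq_blkAt)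
open Cfsg.Agent.Lib.Watanabe.BlkIn
open Cfsg.Agent.Lib.Characters.Basic

universe u

attribute [local instance] Ideal.Quotient.field

variable {M : Ideal Cfsg.AlgInt} [M.IsMaximal] {p : ℕ} [Fact p.Prime]

section Part

variable {G : Type u} [Group G] [Finite G]

local notation "C[" P "]" => Subgroup.centralizer ((P : Subgroup G) : Set G)
local notation "kG" => MonoidAlgebra (Res M) G

variable (p) in
/-- The characters agree on the regular elements. -/
def Uni {L : Type u} [Group L] (A : Set (Cfsg.IrrCharacter L)) : Prop :=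
  ∀ θ ∈ A, ∀ θ' ∈ A, ∀ s : L, ¬ p ∣ orderOf s → (θ : L → ℂ) s = (θ' : L → ℂ) s

/-- The coefficient of a character at a section. -/
noncomputable def tco (χ : Cfsg.IrrCharacter G) (v : G)
    (ω : Blk (Res M) C[Subgroup.zpowers v]) : ℂ :=
  haveI := Fintype.ofFinite C[Subgroup.zpowers v]
  ∑ η ∈ bset (toSet ω), Cfsg.classInner (sect v C[Subgroup.zpowers v] (χ : G → ℂ))
    (η : C[Subgroup.zpowers v] → ℂ)

variable {v : G} {ω : Blk (Res M) (Subgroup.centralizer ((Subgroup.zpowers v : Subgroup G) : Set G))}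

theorem phi_eq (hU : Uni p (toSet ω)) {θ : Cfsg.IrrCharacter C[Subgroup.zpowers v]}
    (hθ : θ ∈ toSet ω) (χ : Cfsg.IrrCharacter G) {s : C[Subgroup.zpowers v]}
    (hs : ¬ p ∣ orderOf s) :
    phi (χ : G → ℂ) v ω s = tco χ v ω * (θ : C[Subgroup.zpowers v] → ℂ) s := by
  letI := Fintype.ofFinite C[Subgroup.zpowers v]
  rw [phi, BlockPart.blockPart_apply, tco, Finset.sum_mul]
  refine Finset.sum_congr rfl fun η hη => ?_
  rw [hU η ((Set.Finite.mem_toFinset _).mp hη) θ hθ s hs]

theorem isIntegral_tco (χ : Cfsg.IrrCharacter G) : IsIntegral ℤ (tco χ v ω) := by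
  have hvC : v ∈ C[Subgroup.zpowers v] := by
    rw [StarChar.Theta.centralizer_zpowers, Subgroup.mem_centralizer_singleton_iff]
  have hc : ∀ c : C[Subgroup.zpowers v], Commute (⟨v, hvC⟩ : C[Subgroup.zpowers v]) c :=
    fun c => Subtype.ext (commute_section _ c.2).eq
  letI := Fintype.ofFinite C[Subgroup.zpowers v]
  refine IsIntegral.sum _ fun η _ => ?_
  letI := Fintype.ofFinite G
  rw [show Cfsg.classInner (sect v C[Subgroup.zpowers v] (χ : G → ℂ)) η = acoef ⟨v, hvC⟩ χ η from
    classInner_sect hc χ η, acoef]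
  refine IsIntegral.mul ?_ (isIntegral_lam hc η)
  exact isIntegral_natCast _

theorem phiSum_tco (hU : Uni p (toSet ω)) {θ : Cfsg.IrrCharacter C[Subgroup.zpowers v]}
    (hθ : θ ∈ toSet ω) (χ χ' : Cfsg.IrrCharacter G) :
    phiSum p χ χ' v ω = tco χ v ω * conj (tco χ' v ω) *
      regSum p (θ : C[Subgroup.zpowers v] → ℂ) (θ : C[Subgroup.zpowers v] → ℂ) := by
  classical
  letI := Fintype.ofFinite C[Subgroup.zpowers v]
  rw [phiSum_eq, regSum_eq_sum, Finset.mul_sum]
  refine Finset.sum_congr rfl fun s _ => ?_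
  split_ifs with hs
  · rw [mul_zero]
  · rw [phi_eq hU hθ χ hs, phi_eq hU hθ χ' hs, map_mul, apply_inv (isCharacter_irr θ) s]
    ring

variable [CharP (Res M) p]

theorem tauBar_tco (hM : Cfsg.IsPModular p M) (χ : Cfsg.IrrCharacter G)
    (hv : ∃ k : ℕ, orderOf v = p ^ k) {i : kG} (hi : i ∈ fx (Res M) (Subgroup.zpowers v))
    (hii : i * i = i) (hω : Blo (Subgroup.zpowers v) ω i) (hU : Uni p (toSet ω))
    {θ : Cfsg.IrrCharacter C[Subgroup.zpowers v]} (hθ : θ ∈ toSet ω) :
    tauBar χ v i = tco χ v ω * tauBar θ 1 (br (Subgroup.zpowers v) i) :=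
  Eval.tauBar_eq_mul hM χ hv hi hii hω fun _ hs => phi_eq hU hθ χ hs

end Part

section Pair

variable [CharP (Res M) p] {G : Type u} [Group G] [Finite G]

local notation "C[" P "]" => Subgroup.centralizer ((P : Subgroup G) : Set G)

variable {P : Subgroup G} {c : Blk (Res M) (Subgroup.centralizer (P : Set G))}

theorem le_centralizer_sub (hab : ∀ x ∈ P, ∀ y ∈ P, x * y = y * x) {T : Subgroup G} (hT : T ≤ P) :
    P ≤ C[T] :=
  fun _ hx => Subgroup.mem_centralizer_iff.mpr fun y hy => hab y (hT hy) _ hx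

/-- The block of `C(T)` below the pair. -/
noncomputable def om (c : Blk (Res M) (Subgroup.centralizer (P : Set G))) (hP : IsPGroup p P)
    (hab : ∀ x ∈ P, ∀ y ∈ P, x * y = y * x) {T : Subgroup G} (hT : T ≤ P) :
    Blk (Res M) C[T] :=
  blkIn c hP (le_centralizer_sub hab hT) (centralizer_anti hT)

/-- Only the centralizer of `P` in the stabilizer centralises `T`. -/
def Free (c : Blk (Res M) (Subgroup.centralizer (P : Set G))) (T : Subgroup G) : Prop :=
  ∀ x ∈ stab (⟨P, c⟩ : Idx (Res M) G), x ∈ C[T] → x ∈ C[P]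

variable (hM : Cfsg.IsPModular p M) (htop : Top p (⟨P, c⟩ : Idx (Res M) G))
  (hab : ∀ x ∈ P, ∀ y ∈ P, x * y = y * x)

theorem le_om {T : Subgroup G} (hT : T ≤ P) :
    Le p (⟨T, om c htop.1 hab hT⟩ : Idx (Res M) G) (⟨P, c⟩ : Idx (Res M) G) :=
  BrauerPairs.LocalAbelian.le_of_pairOf htop.1 (le_centralizer_sub hab hT) hT
    (pairOf_blkIn htop.1 (le_centralizer_sub hab hT) (centralizer_anti hT))

theorem blkAt_eq (htop : Top p (⟨P, c⟩ : Idx (Res M) G)) (hab : ∀ x ∈ P, ∀ y ∈ P, x * y = y * x) (u : P) :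
    blkAt (b := (⟨P, c⟩ : Idx (Res M) G)) htop.1 u =
      om c htop.1 hab (Subgroup.zpowers_le.mpr u.2) :=
  (eq_blkAt (b := (⟨P, c⟩ : Idx (Res M) G)) htop.1 u (le_om htop hab _)).symm

theorem blo_om {j : MonoidAlgebra (Res M) G} (hj : Indec P j) (hjc : Blo P c j)
    (hne : brx P j ≠ 0) {T : Subgroup G} (hT : T ≤ P) : Blo T (om c htop.1 hab hT) j :=
  StarChar.Support.blo_below htop.1 hj hjc hne T _ (le_om htop hab hT)

include hM in
/-- The local blocks have one modular character. -/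
theorem facts_om {T : Subgroup G} (hT : T ≤ P) (hfree : Free c T) :
    Uni p (toSet (om c htop.1 hab hT)) ∧
      (∀ (z : (pairIn c (le_centralizer_sub hab hT) (centralizer_anti hT)).1)
        (θ : Cfsg.IrrCharacter C[T]), θ ∈ toSet (om c htop.1 hab hT) →
          phiSum p θ θ (z : C[T]) (blkAt (top_pairIn (le_centralizer_sub hab hT)
            (centralizer_anti hT) htop).1 z) =
            (Nat.card (Subgroup.centralizer
              ((Subgroup.zpowers (z : C[T]) : Subgroup C[T]) : Set C[T])) : ℂ) / (Nat.card P : ℂ)) ∧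
      ∀ θ ∈ toSet (om c htop.1 hab hT),
        regSum p (θ : C[T] → ℂ) (θ : C[T] → ℂ) = (Nat.card C[T] : ℂ) / (Nat.card P : ℂ) := by
  letI := Fintype.ofFinite C[T]
  have hPL := le_centralizer_sub hab hT
  have hCL := centralizer_anti hT
  have htopT := top_pairIn hPL hCL htop
  have hpair := pairOf_blkIn (c := c) htop.1 hPL hCL
  have hnil : Nilp p (om c htop.1 hab hT) :=
    (BrauerPairs.LocalAbelian.nilp_iff htop hab hPL hT hpair).mpr hfree
  have hab' : ∀ x ∈ (pairIn c hPL hCL).1, ∀ y ∈ (pairIn c hPL hCL).1, x * y = y * x :=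
    fun x hx y hy => Subtype.ext (hab _ hx _ hy)
  have hcard : Nat.card (pairIn c hPL hCL).1 = Nat.card P :=
    Nat.card_congr (Subgroup.subgroupOfEquivOfLe hPL).toEquiv
  refine ⟨fun θ hθ θ' hθ' s hs => Nilp.agree hM htopT hpair hab' hnil hθ hθ' hs,
    fun z θ hθ => ?_, fun θ hθ => ?_⟩
  · rw [Nilp.phiSum_self hM htopT hpair hab' hnil hθ z, hcard]
  · rw [Nilp.regSum_self hM htopT hpair hab' hnil hθ, hcard]

include hM hab in
/-- The local blocks at the elements. -/
theorem facts_blkAt (u : P) (hfree : Free c (Subgroup.zpowers (u : G))) :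
    Uni p (toSet (blkAt (b := (⟨P, c⟩ : Idx (Res M) G)) htop.1 u)) ∧
      ∀ χ χ' : Cfsg.IrrCharacter G,
        phiSum p χ χ' (u : G) (blkAt (b := (⟨P, c⟩ : Idx (Res M) G)) htop.1 u) =
          tco χ (u : G) (blkAt (b := (⟨P, c⟩ : Idx (Res M) G)) htop.1 u) *
            conj (tco χ' (u : G) (blkAt (b := (⟨P, c⟩ : Idx (Res M) G)) htop.1 u)) *
              ((Nat.card C[Subgroup.zpowers (u : G)] : ℂ) / (Nat.card P : ℂ)) := by
  obtain ⟨hU, -, hreg⟩ := facts_om hM htop hab (Subgroup.zpowers_le.mpr u.2) hfree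
  rw [blkAt_eq htop hab u]
  obtain ⟨θ, hθ⟩ := exists_mem (om c htop.1 hab (Subgroup.zpowers_le.mpr u.2))
  exact ⟨hU, fun χ χ' => by rw [phiSum_tco hU hθ, hreg θ hθ]⟩

include hM in
/-- The values at the truncations. -/
theorem exists_mval {j : MonoidAlgebra (Res M) G} (hj : Indec P j) :
    ∃ m : Subgroup G → ℕ, ∀ (T : Subgroup G) (hT : T ≤ P), Free c T →
      ∀ θ ∈ toSet (om c htop.1 hab hT), tauBar θ 1 (br T j) = (m T : ℂ) := by
  classical
  have h : ∀ T : Subgroup G, ∃ n : ℕ, ∀ hT : T ≤ P, Free c T →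
      ∀ θ ∈ toSet (om c htop.1 hab hT), tauBar θ 1 (br T j) = (n : ℂ) := by
    intro T
    by_cases hT : T ≤ P ∧ Free c T
    · obtain ⟨hT, hfree⟩ := hT
      obtain ⟨θ₀, hθ₀⟩ := exists_mem (om c htop.1 hab hT)
      have hjj : br T j * br T j = br T j := by
        rw [← br_mul (htop.1.to_le hT) (mem_fx.mp (fx_anti hT hj.mem))
          (mem_fx.mp (fx_anti hT hj.mem)), hj.idem]
      obtain ⟨n, hn⟩ := Eval.exists_nat_tauBar θ₀ hjj
      refine ⟨n, fun _ _ θ hθ => ?_⟩
      rw [Eval.tauBar_one_congr hM hjj fun s hs =>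
        (facts_om hM htop hab hT hfree).1 θ hθ θ₀ hθ₀ s hs, hn]
    · exact ⟨0, fun h1 h2 => absurd ⟨h1, h2⟩ hT⟩
  choose m hm using h
  exact ⟨m, hm⟩

theorem coeff_domCongr {L L' : Type u} [Group L] [Group L'] (e : L ≃* L')
    (a : MonoidAlgebra (Res M) L) (g : L') :
    (MonoidAlgebra.domCongr (Res M) (Res M) e a).coeff g = a.coeff (e.symm g) := by
  induction a using MonoidAlgebra.induction_linear with
  | zero => simp
  | add x y hx hy => simp [hx, hy]
  | single w r =>
    rw [domCongr_single, coeff_single, coeff_single]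
    classical
    rw [Finsupp.single_apply, Finsupp.single_apply]
    exact if_congr ⟨fun h => by rw [← h, MulEquiv.symm_apply_apply],
      fun h => by rw [h, MulEquiv.apply_symm_apply]⟩ rfl rfl

theorem bidem_comp {L L' : Type u} [Group L] [Group L'] [Finite L] [Finite L'] (e : L ≃* L')
    (ω : Blk (Res M) L') :
    MonoidAlgebra.domCongr (Res M) (Res M) e (bidem (ω.comp (zMap e))) = bidem ω := by
  show MonoidAlgebra.domCongr (Res M) (Res M) e
    ((idem (ω.comp (zMap e)) : ZAlg (Res M) L) : MonoidAlgebra (Res M) L) = _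
  rw [← coe_zMap, zMap_idem]
  refine congrArg (fun φ => ((idem φ : ZAlg (Res M) L') : MonoidAlgebra (Res M) L')) ?_
  refine AlgHom.ext fun z => ?_
  show ω (zMap e (zMap e.symm z)) = ω z
  have := zMap_symm e.symm z
  rw [MulEquiv.symm_symm] at this
  rw [this]

include hM in
/-- **The generalized character of `P` attached to `Q`.** -/
theorem exists_row {j : MonoidAlgebra (Res M) G} (hj : Indec P j) (hjc : Blo P c j)
    (hne : brx P j ≠ 0) {m : Subgroup G → ℕ}
    (hm : ∀ (T : Subgroup G) (hT : T ≤ P), Free c T →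
      ∀ θ ∈ toSet (om c htop.1 hab hT), tauBar θ 1 (br T j) = (m T : ℂ))
    {Q : Subgroup G} (hQ : Q ≤ P) (hfree : Free c Q) :
    ∃ r t : P → ℂ, Cfsg.IsCharacter P r ∧
      (∀ z : P, r z = t z * (m (Q ⊔ Subgroup.zpowers (z : G)) : ℂ)) ∧
      (∀ z : P, t z * conj (t z) = 1) ∧ (∀ z, IsIntegral ℤ (t z)) ∧ r 1 = (m Q : ℂ) := by
  classical
  set K : Subgroup G := C[Q] with hK
  have hPK : P ≤ K := le_centralizer_sub hab hQ
  have hCK : C[P] ≤ K := centralizer_anti hQ
  have htopK := top_pairIn hPK hCK htop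
  have habK : ∀ x ∈ P.subgroupOf K, ∀ y ∈ P.subgroupOf K, x * y = y * x :=
    fun x hx y hy => Subtype.ext (hab _ hx _ hy)
  have hfreeK : ∀ T' : Subgroup K, Free (down hPK hCK c) T' := fun T' x hx _ =>
    (mem_centralizer_subgroupOf_iff hPK x).mpr
      (hfree _ ((mem_stab_pairIn_iff hPK hCK x).mp hx) x.2)
  obtain ⟨-, hN3, -⟩ := facts_om hM htop hab hQ hfree
  obtain ⟨θQ, hθQ⟩ := exists_mem (om c htop.1 hab hQ)
  set jK : MonoidAlgebra (Res M) K := br Q j with hjK
  have hjKm : jK ∈ fx (Res M) (P.subgroupOf K) := mem_fx.mpr fun u hu g => by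
    rw [hjK, coeff_br, coeff_br]
    exact mem_fx.mp hj.mem (u : G) hu (g : G)
  have hjKj : jK * jK = jK := by
    rw [hjK, ← br_mul (htop.1.to_le hQ) (mem_fx.mp (fx_anti hQ hj.mem))
      (mem_fx.mp (fx_anti hQ hj.mem)), hj.idem]
  obtain ⟨f, hf, hff, hfr⟩ := exists_lift hjKm hjKj
  let up : P → P.subgroupOf K := fun z => ⟨⟨(z : G), hPK z.2⟩, z.2⟩
  let r : P → ℂ := fun z => tauBar θQ (up z : K) jK
  let t : P → ℂ := fun z => tco θQ (up z : K) (blkAt (b := pairIn c hPK hCK) htopK.1 (up z))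
  have hr : r = (fun z : P.subgroupOf K => tau θQ (z : K) f) ∘
      (Subgroup.subgroupOfEquivOfLe hPK).symm.toMonoidHom := funext fun z => by
    show tauBar θQ _ jK = _
    rw [← hfr, ← StarChar.Theta.tauBar_eq θQ (Q := P.subgroupOf K) (up z).2 hf hff]
    rfl
  have hmain : ∀ z : P, r z = t z * (m (Q ⊔ Subgroup.zpowers (z : G)) : ℂ) ∧
      t z * conj (t z) = 1 := by
    intro z
    set T : Subgroup G := Q ⊔ Subgroup.zpowers (z : G) with hTdef
    have hT : T ≤ P := sup_le hQ (Subgroup.zpowers_le.mpr z.2)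
    have hfT : Free c T := fun x hx hxT => hfree x hx (centralizer_anti le_sup_left hxT)
    have hv : ∃ k : ℕ, orderOf ((up z : P.subgroupOf K) : K) = p ^ k := by
      obtain ⟨k, hk⟩ := IsPGroup.iff_orderOf.mp htopK.1 (up z)
      exact ⟨k, by rw [← hk, Subgroup.orderOf_coe]⟩
    set L' : Subgroup K := Subgroup.centralizer
      ((Subgroup.zpowers ((up z : P.subgroupOf K) : K) : Subgroup K) : Set K) with hL'
    have hLK : C[T] ≤ K := centralizer_anti le_sup_left
    have h : ∀ x : K, x ∈ L' ↔ (x : G) ∈ C[T] := fun x => by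
      rw [hTdef, centralizer_sup, hL', StarChar.Theta.centralizer_zpowers, StarChar.Theta.centralizer_zpowers,
        Subgroup.mem_centralizer_singleton_iff, Subgroup.mem_centralizer_singleton_iff]
      exact ⟨fun e => ⟨x.2, congrArg Subtype.val e⟩, fun e => Subtype.ext e.2⟩
    set e := subEquiv L' C[T] hLK h with he
    have hT' : Subgroup.zpowers ((up z : P.subgroupOf K) : K) ≤ P.subgroupOf K :=
      Subgroup.zpowers_le.mpr (up z).2
    have hω : blkAt (b := pairIn c hPK hCK) htopK.1 (up z) =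
        (om c htop.1 hab hT).comp (zMap e) := by
      rw [blkAt_eq (c := down hPK hCK c) htopK habK (up z)]
      exact blkIn_sub htop.1 (le_centralizer_sub hab hT) (centralizer_anti hT) hPK hCK L' hLK h
        (le_centralizer_sub habK hT') (centralizer_anti hT')
    obtain ⟨hU, hps⟩ := facts_blkAt hM htopK habK (up z) (hfreeK _)
    obtain ⟨θ, hθ⟩ := exists_mem (om c htop.1 hab hT)
    have hθ' : pushIrr e.symm θ ∈
        toSet (blkAt (b := pairIn c hPK hCK) htopK.1 (up z)) := by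
      rw [mem_toSet, blkOf_pushIrr, mem_toSet.mp hθ, hω, MulEquiv.symm_symm]
    have hbr : MonoidAlgebra.domCongr (Res M) (Res M) e
        (br (Subgroup.zpowers ((up z : P.subgroupOf K) : K)) jK) = br T j := by
      refine MonoidAlgebra.ext (Finsupp.ext fun g => ?_)
      rw [coeff_domCongr, coeff_br, coeff_br, coeff_br]
      rfl
    have hblo : Blo (Subgroup.zpowers ((up z : P.subgroupOf K) : K))
        (blkAt (b := pairIn c hPK hCK) htopK.1 (up z)) jK := by
      rw [hω, Blo]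
      refine ext_injective K ?_
      rw [map_mul, brx, bext, ext_ext_sub L' C[T] hLK h, ext_ext_sub L' C[T] hLK h, hbr,
        bidem_comp]
      exact blo_om htop hab hj hjc hne hT
    have htau := tauBar_tco hM θQ hv (fx_anti hT' hjKm) hjKj hblo hU hθ'
    have hbr' : br (Subgroup.zpowers ((up z : P.subgroupOf K) : K)) jK =
        MonoidAlgebra.domCongr (Res M) (Res M) e.symm (br T j) := by
      rw [← hbr, ← domCongr_symm, AlgEquiv.symm_apply_apply]
    have hbT : br T j * br T j = br T j := by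
      rw [← br_mul (htop.1.to_le hT) (mem_fx.mp (fx_anti hT hj.mem))
        (mem_fx.mp (fx_anti hT hj.mem)), hj.idem]
    rw [hbr', Eval.tauBar_pushIrr e.symm θ hbT, hm T hT hfT θ hθ] at htau
    refine ⟨htau, ?_⟩
    have h3 := hN3 (up z) θQ hθQ
    have hPc : Nat.card (P.subgroupOf K) = Nat.card P :=
      Nat.card_congr (Subgroup.subgroupOfEquivOfLe hPK).toEquiv
    rw [hps θQ θQ, hPc] at h3
    have hC : (Nat.card (Subgroup.centralizer ((Subgroup.zpowers ((up z : P.subgroupOf K) : K) :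
        Subgroup K) : Set K)) : ℂ) / (Nat.card P : ℂ) ≠ 0 :=
      div_ne_zero (Nat.cast_ne_zero.mpr Nat.card_pos.ne') (Nat.cast_ne_zero.mpr Nat.card_pos.ne')
    exact (mul_eq_right₀ hC).mp h3
  refine ⟨r, t, hr ▸ isCharacter_comp _ (StarChar.Integrality.isCharacter_tau θQ hf hff),
    fun z => (hmain z).1, fun z => (hmain z).2, fun z => isIntegral_tco _, ?_⟩
  show tauBar θQ ((up (1 : P) : P.subgroupOf K) : K) jK = (m Q : ℂ)
  rw [show ((up (1 : P) : P.subgroupOf K) : K) = 1 from rfl, hjK, hm Q hQ hfree θQ hθQ]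

end Pair

end Cfsg.Agent.Lib.FreeAbelian.Local
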