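import Cfsg.Agent.Lib.FreeAbelian.Eval
import Cfsg.Agent.Lib.BrauerChar.Block
import Cfsg.Agent.Lib.BrauerMap.CentralDefect
import Cfsg.Agent.Lib.BrauerPairs.RankAbelian
import Cfsg.Agent.Lib.Watanabe.BlkIn

/-!
# An indecomposable idempotent of the pair with value prime to `p`

The trace of the reduction of a character is a functional on the group algebra (`exists_functional`).
For an indecomposable idempotent of the fixed algebra whose truncation lies in the block of the pair
some value at the truncation is prime to `p` (`exists_prim`).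
-/

set_option autoImplicit false
set_option linter.style.haveILetI false
set_option linter.unusedSectionVars false

namespace Cfsg.Agent.Lib.FreeAbelian.Prim

open MonoidAlgebra
open Cfsg.Agent.Lib.Blocks
open Cfsg.Agent.Lib.BrauerMap.Basic
open Cfsg.Agent.Lib.BrauerPairs.Center Cfsg.Agent.Lib.BrauerPairs.Trunc
open Cfsg.Agent.Lib.BrauerPairs.Pairs Cfsg.Agent.Lib.BrauerPairs.Bridge
open Cfsg.Agent.Lib.BrauerPairs.Maximal Cfsg.Agent.Lib.BrauerPairs.Embed
open Cfsg.Agent.Lib.BrauerPairs.Conj
open Cfsg.Agent.Lib.StarChar.Fixed Cfsg.Agent.Lib.StarChar.Theta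
open Cfsg.Agent.Lib.StarChar.Algebra
open Cfsg.Agent.Lib.StarChar.Comp
open Cfsg.Agent.Lib.Characters.Basic

universe u

attribute [local instance] Ideal.Quotient.field

variable {M : Ideal Cfsg.AlgInt} [M.IsMaximal] {p : ℕ} [Fact p.Prime]

section Functional

variable {L : Type u} [Group L] [Finite L]

local notation "kL" => MonoidAlgebra (Res M) L

/-- **The trace of the reduction.** -/
theorem exists_functional (hM : Cfsg.IsPModular p M) (θ : Cfsg.IrrCharacter L) :
    ∃ F : kL →ₗ[Res M] Res M,
      (∀ z : MonoidAlgebra (localRing M) L, ∃ hm : lin (θ : L → ℂ) (toC z) ∈ localRing M,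
        F (red M z) = residue M ⟨lin (θ : L → ℂ) (toC z), hm⟩) ∧
      (∀ a b, F (a * b) = F (b * a)) ∧ (∀ a, IsNilpotent a → F a = 0) ∧
      (∀ (z : ZAlg (Res M) L) (a : kL), F (a * z.1) = omegaBar M θ z * F a) ∧
      ∀ ω : Blk (Res M) L, blkOf M θ ≠ ω → ∀ a, F (a * bidem ω) = 0 := by
  classical
  obtain ⟨m, T, hT⟩ := BrauerChar.exists_matrix_localRing hM (isCharacter_irr θ)
  obtain ⟨n, A, hA, hAc⟩ := BrauerChar.exists_reduction hM θ
  set A' := ((residue M).mapMatrix.toMonoidHom).comp T with hA'
  have hb : BrauerChar.bchar p A' = BrauerChar.bchar p A := by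
    funext g
    rw [hA, Blocks.Contrib.pRegularPart_apply]
    split_ifs with hg
    · exact BrauerChar.bchar_singular _ hg
    · rw [BrauerChar.bchar_reduction hM T hg, hT]
  refine ⟨(Matrix.traceLinearMap (Fin n) (Res M) (Res M)).comp (BrauerChar.alg A).toLinearMap,
    fun z => ?_, fun a b => ?_, fun a ha => ?_, fun z a => ?_, fun ω hω a => ?_⟩
  · show ∃ hm, (BrauerChar.alg A (red M z)).trace = _
    rw [← BrauerChar.trace_alg_eq hM A' A hb]
    induction z using MonoidAlgebra.induction_linear with
    | zero =>
      refine ⟨by rw [map_zero, map_zero]; exact zero_mem _, ?_⟩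
      rw [map_zero, map_zero, Matrix.trace_zero]
      refine ((map_zero (residue M)).symm.trans ?_)
      exact congrArg _ (Subtype.ext (by simp))
    | add x y hx hy =>
      obtain ⟨hxm, hx⟩ := hx
      obtain ⟨hym, hy⟩ := hy
      refine ⟨by rw [map_add, map_add]; exact add_mem hxm hym, ?_⟩
      rw [map_add, map_add, Matrix.trace_add, hx, hy, ← map_add]
      congr 1
      exact Subtype.ext (by simp)
    | single g r =>
      have e : lin (θ : L → ℂ) (toC (single g r)) = (r : ℂ) * ((T g).trace : localRing M) := by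
        rw [toC, MonoidAlgebra.mapRingHom_single, Blocks.lin_single, hT]
        rfl
      refine ⟨by rw [e]; exact mul_mem r.2 ((T g).trace).2, ?_⟩
      rw [red, MonoidAlgebra.mapRingHom_single, BrauerChar.alg_single, Matrix.trace_smul,
        smul_eq_mul]
      have e2 : (A' g).trace = residue M ((T g).trace) := by
        rw [AddMonoidHom.map_trace]
        rfl
      rw [e2, ← map_mul]
      congr 1
      exact Subtype.ext e.symm
  · show (BrauerChar.alg A (a * b)).trace = (BrauerChar.alg A (b * a)).trace
    rw [map_mul, map_mul, Matrix.trace_mul_comm]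
  · exact (Matrix.isNilpotent_trace_of_isNilpotent (ha.map (BrauerChar.alg A))).eq_zero
  · show (BrauerChar.alg A (a * z.1)).trace = omegaBar M θ z * (BrauerChar.alg A a).trace
    rw [map_mul, hAc, Algebra.algebraMap_eq_smul_one, mul_smul_comm, mul_one, Matrix.trace_smul,
      smul_eq_mul]
  · show (BrauerChar.alg A (a * bidem ω)).trace = 0
    have h0 : omegaBar M θ (BrauerPairs.Center.idem ω) = 0 :=
      apply_idem_ne (show (blkOf M θ) ≠ ω from hω)
    rw [map_mul, show bidem ω = (BrauerPairs.Center.idem ω : ZAlg (Res M) L).1 from rfl, hAc, h0,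
      map_zero, mul_zero, Matrix.trace_zero]

/-- The value at an idempotent. -/
theorem functional_idem {θ : Cfsg.IrrCharacter L} {F : kL →ₗ[Res M] Res M}
    (hF : ∀ z : MonoidAlgebra (localRing M) L, ∃ hm : lin (θ : L → ℂ) (toC z) ∈ localRing M,
        F (red M z) = residue M ⟨lin (θ : L → ℂ) (toC z), hm⟩)
    {i : kL} (hi : i * i = i) {n : ℕ} (hn : tauBar θ 1 i = n) : F i = (n : Res M) := by
  obtain ⟨e, he, hee, rfl⟩ := exists_lift (Q := (⊥ : Subgroup L)) (Eval.mem_fx_bot i) hi
  obtain ⟨hm, h⟩ := hF e
  rw [← tauBar_eq θ (one_mem _) he hee, Eval.tau_one_eq] at hn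
  rw [h, ← map_natCast (residue M)]
  congr 1
  exact Subtype.ext (by push_cast; exact hn)

end Functional

variable {G : Type u} [Group G] [Finite G]

local notation "C[" P "]" => Subgroup.centralizer ((P : Subgroup G) : Set G)

variable [CharP (Res M) p] {P : Subgroup G} {c : Blk (Res M) (Subgroup.centralizer (P : Set G))}

theorem blkIn_centralizer (hP : IsPGroup p P) (hPC : P ≤ C[P]) (hCC : C[P] ≤ C[P]) :
    Watanabe.BlkIn.blkIn c hP hPC hCC = c := by
  refine AlgHom.ext fun z => ?_
  rw [Watanabe.BlkIn.blkIn_apply, val_eq c (isFixedBy_ext_of_center z.2)]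
  refine congrArg c (Subtype.ext (MonoidAlgebra.ext (Finsupp.ext fun g => ?_)))
  show (br P (ext C[P] (z : MonoidAlgebra (Res M) C[P]))).coeff g = _
  rw [coeff_br, coeff_ext]

variable (hM : Cfsg.IsPModular p M) (htop : Top p (⟨P, c⟩ : Idx (Res M) G))
  (hab : ∀ x ∈ P, ∀ y ∈ P, x * y = y * x)
include hM htop hab

/-- A value off the ideal. -/
theorem exists_value : ∃ θ ∈ toSet c,
    (Cfsg.charDegree (θ : C[P] → ℂ)).factorization p =
        (P.subgroupOf C[P]).index.factorization p ∧
      ∃ s : C[P], ¬ Cfsg.MemLocalIdeal M ((θ : C[P] → ℂ) s) := by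
  have hPC : P ≤ C[P] := BrauerPairs.Abelian.le_centralizer_of_le_abelian hab le_rfl
  have htopC := BrauerPairs.LocalAbelian.top_down_of_top hPC le_rfl c htop
  have hpair := Watanabe.BlkIn.pairOf_blkIn (c := c) htop.1 hPC le_rfl
  rw [blkIn_centralizer htop.1 hPC le_rfl] at hpair
  have hcard := BrauerPairs.RankAbelian.card_top hM htopC hpair
  obtain ⟨θ, hθ, h0⟩ := Blocks.Contrib.exists_height_zero (p := p) (isPBlock_toSet c)
  suffices h : (Cfsg.charDegree (θ : C[P] → ℂ)).factorization p =
      (P.subgroupOf C[P]).index.factorization p from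
    ⟨θ, hθ, h, BrauerMap.CentralDefect.exists_not_memLocalIdeal hM (D := P.subgroupOf C[P])
      (fun x hx => Subgroup.mem_center_iff.mpr fun g =>
        Subtype.ext ((Subgroup.mem_centralizer_iff.mp g.2 _ hx).symm)) h⟩
  · have hidx : (P.subgroupOf C[P]).index ≠ 0 := Subgroup.index_ne_zero_of_finite
    have h1 : (Nat.card (P.subgroupOf C[P]) * (P.subgroupOf C[P]).index).factorization p =
        (Nat.card C[P]).factorization p := by rw [(P.subgroupOf C[P]).card_mul_index]
    rw [Nat.factorization_mul Nat.card_pos.ne' hidx, hcard, Finsupp.add_apply,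
      Nat.Prime.factorization_pow Fact.out, Finsupp.single_eq_same,
      ← Blocks.Contrib.minVdeg_add_blockDefect (p := p) (isPBlock_toSet c)] at h1
    show Blocks.Contrib.vdeg p θ = _
    omega

/-- **The idempotent.** -/
theorem exists_prim : ∃ j : MonoidAlgebra (Res M) G, Indec P j ∧ Blo P c j ∧ brx P j ≠ 0 ∧
    ∃ θ ∈ toSet c, ∃ u : ℕ, tauBar θ 1 (br P j) = u ∧ ¬ p ∣ u := by
  classical
  have hP : IsPGroup p P := htop.1
  obtain ⟨θ, hθ, -, s, hs⟩ := exists_value hM htop hab
  obtain ⟨F, hF, hFc, hFn, -, hFb⟩ := exists_functional hM θ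
  set X : MonoidAlgebra (Res M) G := single (s : G) 1 with hX
  have hXm : X ∈ fx (Res M) P := mem_fx.mpr fun u hu g => by
    have hc : (u : G) * s = (s : G) * u := Subgroup.mem_centralizer_iff.mp s.2 u hu
    simp only [hX, coeff_single, Finsupp.single_apply]
    refine if_congr ⟨fun h => ?_, fun h => ?_⟩ rfl rfl
    · have : u * g * u⁻¹ = u * (s : G) * u⁻¹ := by rw [← h, hc, mul_inv_cancel_right]
      exact (mul_left_cancel (mul_right_cancel this)).symm
    · rw [← h, hc, mul_inv_cancel_right]
  have hbX : br P X = single s 1 := by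
    refine MonoidAlgebra.ext (Finsupp.ext fun g => ?_)
    rw [coeff_br]
    simp only [hX, coeff_single, Finsupp.single_apply]
    exact if_congr Subtype.coe_injective.eq_iff rfl rfl
  by_contra hno
  push Not at hno
  have key : F (br P (1 : MonoidAlgebra (Res M) G) * br P X) = 0 := by
    refine idem_induction (Q := P) (motive := fun e => F (br P e * br P X) = 0) ?_ ?_ ?_
      (one_mem _) (mul_one 1)
    · show F (br P 0 * br P X) = 0
      rw [br_zero, zero_mul, map_zero]
    · intro j hj
      show F (br P j * br P X) = 0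
      have hjj : br P j * br P j = br P j := by
        rw [← br_mul hP (mem_fx.mp hj.mem) (mem_fx.mp hj.mem), hj.idem]
      by_cases h0 : brx P j = 0
      · rw [show br P j = 0 from ext_injective C[P] (by rw [map_zero]; exact h0), zero_mul, map_zero]
      obtain ⟨ω, hω⟩ := hj.exists_blo hP
      have hωj : br P j * bidem ω = br P j := ext_injective C[P] (by rw [map_mul]; exact hω)
      by_cases hωc : blkOf M θ = ω
      · obtain rfl : c = ω := (mem_toSet.mp hθ).symm.trans hωc
        obtain ⟨u, hu⟩ := Eval.exists_nat_tauBar θ hjj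
        have hpu : p ∣ u := hno j hj hω h0 θ hθ u hu
        obtain ⟨σ, hσ⟩ := hj.exists_single
        obtain ⟨w, φ, hw, hE⟩ := hσ.exists_rankOne
        set x := j * X * j with hx
        have hxm : x ∈ fx (Res M) P := mul_mem (mul_mem hj.mem hXm) hj.mem
        have hjx : j * x = x := by simp only [hx, ← mul_assoc, hj.idem]
        have hxj : x * j = x := by simp only [hx, mul_assoc, hj.idem]
        set J : fx (Res M) P := ⟨j, hj.mem⟩
        set Xx : fx (Res M) P := ⟨x, hxm⟩
        set a := φ ((pk P).π σ Xx w) with ha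
        have hxs : (pk P).π σ Xx = a • (pk P).π σ J := by
          have h1 : (pk P).π σ J * (pk P).π σ Xx * (pk P).π σ J = (pk P).π σ Xx := by
            rw [← map_mul, ← map_mul,
              show J * Xx * J = Xx from Subtype.ext (by show j * x * j = x; rw [hjx, hxj])]
          rw [← h1, hE]
          refine LinearMap.ext fun z => ?_
          simp only [Module.End.mul_apply, rankOne_apply, LinearMap.smul_apply, map_smul,
            smul_smul, ha, mul_comm]
        set N := x - a • j with hN
        have hNm : N ∈ fx (Res M) P := sub_mem hxm (Subalgebra.smul_mem _ hj.mem _)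
        have hjN : j * N = N := by rw [hN, mul_sub, hjx, mul_smul_comm, hj.idem]
        have hNj : N * j = N := by rw [hN, sub_mul, hxj, smul_mul_assoc, hj.idem]
        have hNnil : ∃ m : ℕ, N ^ (m + 1) = 0 := by
          rcases hj.corner hNm hjN hNj with h | ⟨y, hy, hxy, -⟩
          · exact h
          exfalso
          have h2 : (pk P).π σ (⟨N, hNm⟩ : fx (Res M) P) = 0 := by
            rw [show (⟨N, hNm⟩ : fx (Res M) P) = Xx - a • J from Subtype.ext rfl, map_sub, map_smul,
              hxs, sub_self]
          have h3 : (pk P).π σ J = 0 := by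
            rw [show J = (⟨N, hNm⟩ : fx (Res M) P) * ⟨y, hy⟩ from Subtype.ext hxy.symm, map_mul, h2,
              zero_mul]
          have := hσ.rank_self
          rw [Pkg.rank, h3, LinearMap.range_zero, finrank_bot] at this
          exact zero_ne_one this
        have hFN : F (br P N) = 0 := by
          refine hFn _ ?_
          obtain ⟨m, hm⟩ := hNnil
          refine ⟨m + 1, ext_injective C[P] ?_⟩
          rw [map_pow, map_zero]
          show brx P N ^ (m + 1) = 0
          rw [← brx_pow hP hNm m, hm, brx_zero]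
        have hbx : br P x = br P j * br P X * br P j := by
          rw [hx, br_mul hP (mem_fx.mp (mul_mem hj.mem hXm)) (mem_fx.mp hj.mem),
            br_mul hP (mem_fx.mp hj.mem) (mem_fx.mp hXm)]
        have hcast : (u : Res M) = 0 := (CharP.cast_eq_zero_iff (Res M) p u).mpr hpu
        have hsm : br P (a • j) = a • br P j := by
          refine MonoidAlgebra.ext (Finsupp.ext fun g => ?_)
          simp only [coeff_br, coeff_smul, Finsupp.smul_apply]
        calc F (br P j * br P X) = F (br P j * br P X * br P j) := by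
              rw [hFc (br P j * br P X), ← mul_assoc, hjj]
          _ = F (br P N + a • br P j) := by
              rw [← hbx, ← hsm, ← br_add, hN, sub_add_cancel]
          _ = 0 := by
              rw [map_add, map_smul, hFN, functional_idem hF hjj hu, hcast, smul_zero, add_zero]
      · have hc : Commute (bidem ω) (br P X) :=
          (Subalgebra.mem_center_iff.mp (bidem_mem ω) _).symm
        rw [← hωj, mul_assoc, hc.eq, ← mul_assoc]
        exact hFb ω hωc _
    · intro a ha b hb _ _ _ _ h1 h2
      show F (br P (a + b) * br P X) = 0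
      rw [br_add, add_mul, map_add, h1, h2, add_zero]
  rw [br_one, one_mul, hbX] at key
  obtain ⟨hm, h⟩ := hF (single s 1)
  rw [red, MonoidAlgebra.mapRingHom_single, map_one] at h
  rw [h, residue_eq_zero_iff] at key
  apply hs
  have e : lin (θ : C[P] → ℂ) (toC (single s (1 : localRing M))) = (θ : C[P] → ℂ) s := by
    rw [toC, MonoidAlgebra.mapRingHom_single, Blocks.lin_single, map_one, one_mul]
  rwa [show ((⟨_, hm⟩ : localRing M) : ℂ) = (θ : C[P] → ℂ) s from e] at key

end Cfsg.Agent.Lib.FreeAbelian.Prim
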