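import Cfsg.Agent.Lib.FreeAbelian.Prim
import Cfsg.Agent.Lib.FreeAbelian.Local

/-!
# Uniqueness of the idempotent of the pair

An element stabilizing the pair moves the idempotent to an equivalent one (`eqv_cj`): with `u` prime
to `p` the value at both truncations, the trace of `br j` times the average of the conjugates of
`br j'` over the cosets of the central defect group is `[C(P) : P] u² / θ 1`, a unit.
-/

set_option autoImplicit false
set_option linter.style.haveILetI false
set_option linter.unusedSectionVars false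

namespace Cfsg.Agent.Lib.FreeAbelian.Unique

open MonoidAlgebra
open Cfsg.Agent.Lib.Blocks
open Cfsg.Agent.Lib.BrauerMap.Basic
open Cfsg.Agent.Lib.BrauerPairs.Center Cfsg.Agent.Lib.BrauerPairs.Trunc
open Cfsg.Agent.Lib.BrauerPairs.Pairs Cfsg.Agent.Lib.BrauerPairs.Bridge
open Cfsg.Agent.Lib.BrauerPairs.Maximal Cfsg.Agent.Lib.BrauerPairs.Local
open Cfsg.Agent.Lib.BrauerPairs.Conj
open Cfsg.Agent.Lib.StarChar.Fixed Cfsg.Agent.Lib.StarChar.Theta
open Cfsg.Agent.Lib.StarChar.Comp
open Cfsg.Agent.Lib.Characters.Basic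

universe u

attribute [local instance] Ideal.Quotient.field

variable {M : Ideal Cfsg.AlgInt} [M.IsMaximal] {p : ℕ} [Fact p.Prime] [CharP (Res M) p]
  {G : Type u} [Group G] [Finite G]

local notation "C[" P "]" => Subgroup.centralizer ((P : Subgroup G) : Set G)

variable {P : Subgroup G} {c : Blk (Res M) (Subgroup.centralizer (P : Set G))}
  (hM : Cfsg.IsPModular p M) (htop : Top p (⟨P, c⟩ : Idx (Res M) G))
  (hab : ∀ x ∈ P, ∀ y ∈ P, x * y = y * x)
include hM htop hab

/-- The characters of the block of the pair agree on the regular elements. -/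
theorem uni_top {θ θ' : Cfsg.IrrCharacter C[P]} (hθ : θ ∈ toSet c) (hθ' : θ' ∈ toSet c) :
    ∀ s : C[P], ¬ p ∣ orderOf s → (θ : C[P] → ℂ) s = (θ' : C[P] → ℂ) s := by
  have h := (Local.facts_om hM htop hab (le_refl P) (fun x _ hx => hx)).1
  have e : Local.om c htop.1 hab (le_refl P) = c :=
    Prim.blkIn_centralizer htop.1 (Local.le_centralizer_sub hab le_rfl) (centralizer_anti le_rfl)
  rw [e] at h
  exact h θ hθ θ' hθ'

/-- **Uniqueness.** -/
theorem eqv_cj {j : MonoidAlgebra (Res M) G} (hj : Indec P j) {u : ℕ}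
    (hu : ∀ θ ∈ toSet c, tauBar θ 1 (br P j) = u) (hpu : ¬ p ∣ u) {x : G}
    (hx : x ∈ stab (⟨P, c⟩ : Idx (Res M) G)) : Eqv P j (cj x j) := by
  classical
  have hP : IsPGroup p P := htop.1
  obtain ⟨hxN, hxc⟩ := mem_stab_iff.mp hx
  have hxP : ∀ g, g ∈ P ↔ x * g * x⁻¹ ∈ P := fun g => Subgroup.mem_normalizer_iff.mp hxN g
  have hxC : ∀ g, g ∈ C[P] ↔ x * g * x⁻¹ ∈ C[P] := fun g => mem_centralizer_conj_iff hxN g
  set j' := cj x j with hj'def
  have hj' : Indec P j' := StarChar.Equiv.indec_cj hxP hj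
  set e := conjEquiv x C[P] C[P] hxC with he
  have hbr' : br P j' = MonoidAlgebra.domCongr (Res M) (Res M) e (br P j) := by
    refine MonoidAlgebra.ext (Finsupp.ext fun g => ?_)
    rw [Local.coeff_domCongr, coeff_br, coeff_br, hj'def, coeff_cj]
    rfl
  have hjj : br P j * br P j = br P j := by
    rw [← br_mul hP (mem_fx.mp hj.mem) (mem_fx.mp hj.mem), hj.idem]
  have hjj' : br P j' * br P j' = br P j' := by
    rw [← br_mul hP (mem_fx.mp hj'.mem) (mem_fx.mp hj'.mem), hj'.idem]
  obtain ⟨θ, hθ, hdeg, -⟩ := Prim.exists_value hM htop hab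
  have hu' : tauBar θ 1 (br P j') = u := by
    have hmem : pushIrr e θ ∈ toSet c := by
      rw [mem_toSet, he, blkOf_pushIrr_conj, mem_toSet.mp hθ]
      exact bext_injective _ ((bext_cBlk x _ _ hxC c).trans hxc)
    rw [Eval.tauBar_one_congr hM hjj' (uni_top hM htop hab hθ hmem), hbr',
      Eval.tauBar_pushIrr e θ hjj, hu θ hθ]
  obtain ⟨F, hF, hFc, hFn, hFz, -⟩ := Prim.exists_functional hM θ
  have hFj : F (br P j) = (u : Res M) := Prim.functional_idem hF hjj (hu θ hθ)
  -- the average over the cosets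
  obtain ⟨f, -, hff, hfr⟩ :=
    exists_lift (M := M) (Q := (⊥ : Subgroup C[P])) (Eval.mem_fx_bot (br P j')) hjj'
  set D' : Subgroup C[P] := P.subgroupOf C[P] with hD'
  haveI : Fintype (C[P] ⧸ D') := Fintype.ofFinite _
  have hfd : ∀ d ∈ D', cj d f = f := fun d hd => by
    refine MonoidAlgebra.ext (Finsupp.ext fun g => ?_)
    rw [coeff_cj]
    congr 1
    have h : d * g = g * d := Subtype.ext (Subgroup.mem_centralizer_iff.mp g.2 _ hd)
    rw [mul_assoc, ← h, inv_mul_cancel_left]
  set W : MonoidAlgebra (localRing M) C[P] := ∑ q : C[P] ⧸ D', cj q.out f with hWdef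
  have hWcj : ∀ t : C[P], cj t W = W := by
    intro t
    rw [hWdef, map_sum]
    refine Fintype.sum_equiv (MulAction.toPerm t) _ _ fun q => ?_
    obtain ⟨d, hd⟩ : ∃ d ∈ D', (t • q).out = t * q.out * d := by
      refine ⟨(t * q.out)⁻¹ * (t • q).out, ?_, (mul_inv_cancel_left _ _).symm⟩
      rw [← QuotientGroup.eq]
      calc ((t * q.out : C[P]) : C[P] ⧸ D') = t • ((q.out : C[P]) : C[P] ⧸ D') := rfl
        _ = t • q := by rw [QuotientGroup.out_eq']
        _ = ((t • q).out : C[P] ⧸ D') := (QuotientGroup.out_eq' _).symm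
    show cj t (cj q.out f) = cj (t • q).out f
    rw [hd.2, ← cj_mul, cj_mul (t * q.out) d, hfd d hd.1]
  have hWc : W ∈ Subalgebra.center (localRing M) (MonoidAlgebra (localRing M) C[P]) := by
    rw [Subalgebra.mem_center_iff]
    intro a
    induction a using MonoidAlgebra.induction_linear with
    | zero => simp
    | add y z hy hz => rw [add_mul, mul_add, hy, hz]
    | single t r =>
      rw [show (single t r : MonoidAlgebra (localRing M) C[P]) = r • single t 1 by
        rw [MonoidAlgebra.smul_single, smul_eq_mul, mul_one], smul_mul_assoc, mul_smul_comm]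
      congr 1
      exact commute_single ((isFixedBy_iff_cj ⊤ W).mpr fun s _ => hWcj s) (Subgroup.mem_top t)
  have hlin : lin (θ : C[P] → ℂ) (toC W) = (D'.index : ℂ) * (u : ℂ) := by
    have hterm : ∀ q : C[P] ⧸ D', lin (θ : C[P] → ℂ) (toC (cj q.out f)) = (u : ℂ) := fun q => by
      rw [toC, map_cj, lin_cj, ← hu', ← hfr, ← StarChar.Theta.tauBar_eq θ (one_mem _)
        (Eval.mem_fx_bot f) hff, Eval.tau_one_eq]
      rfl
    rw [hWdef, map_sum, map_sum, Finset.sum_congr rfl fun q _ => hterm q, Finset.sum_const,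
      Finset.card_univ, nsmul_eq_mul, ← Nat.card_eq_fintype_card]
    rfl
  set w : Subalgebra.center (localRing M) (MonoidAlgebra (localRing M) C[P]) := ⟨W, hWc⟩
  have hω : omegaBar M θ (mapCenter (residue M) w) ≠ 0 := by
    rw [omegaBar_mapCenter]
    intro h0
    rw [residue_eq_zero_iff, coe_omegaR, omega_apply] at h0
    have h1 := memLocalIdeal_mul_left (BrauerMap.CentralDefect.degree_div_index_mem hM hdeg).1 h0
    rw [show (mapCenter (localRing M).subtype w).1 = toC W from rfl, hlin] at h1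
    have hi : (D'.index : ℂ) ≠ 0 := Nat.cast_ne_zero.mpr Subgroup.index_ne_zero_of_finite
    rw [show (θ : C[P] → ℂ) 1 / (D'.index : ℂ) * ((D'.index : ℂ) * (u : ℂ) / (θ : C[P] → ℂ) 1) =
      (u : ℂ) by field_simp [char_one_ne_zero θ]] at h1
    exact hpu ((memLocalIdeal_natCast_iff hM u).mp h1)
  have hu0 : (u : Res M) ≠ 0 := fun h => hpu ((CharP.cast_eq_zero_iff (Res M) p u).mp h)
  have hne : ∃ s : C[P], F (br P j * cj s (br P j')) ≠ 0 := by
    by_contra hno
    push Not at hno
    have h := hFz (mapCenter (residue M) w) (br P j)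
    rw [show (mapCenter (residue M) w).1 = red M W from rfl, hWdef, map_sum, Finset.mul_sum,
      map_sum, Finset.sum_eq_zero fun q _ => ?_] at h
    · exact mul_ne_zero hω (hFj ▸ hu0) h.symm
    · rw [show red M (cj (Quotient.out q) f) = cj (Quotient.out q) (red M f) from map_cj _ _ f,
        hfr, hno]
  obtain ⟨s, hs⟩ := hne
  -- the two elements
  have hsm : ∀ t : C[P], (single (t : G) 1 : MonoidAlgebra (Res M) G) ∈ fx (Res M) P ∧
      br P (single (t : G) (1 : Res M)) = single t 1 := fun t => by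
    refine ⟨mem_fx.mpr fun v hv g => ?_, MonoidAlgebra.ext (Finsupp.ext fun g => ?_)⟩
    · have hc : (v : G) * t = (t : G) * v := Subgroup.mem_centralizer_iff.mp t.2 v hv
      simp only [coeff_single, Finsupp.single_apply]
      refine if_congr ⟨fun h => ?_, fun h => ?_⟩ rfl rfl
      · have : v * g * v⁻¹ = v * (t : G) * v⁻¹ := by rw [← h, hc, mul_inv_cancel_right]
        exact (mul_left_cancel (mul_right_cancel this)).symm
      · rw [← h, hc, mul_inv_cancel_right]
    · rw [coeff_br]
      simp only [coeff_single, Finsupp.single_apply]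
      exact if_congr Subtype.coe_injective.eq_iff rfl rfl
  set A₁ := j * single (s : G) 1 * j' with hA₁
  set B₁ := j' * single ((s⁻¹ : C[P]) : G) 1 * j with hB₁
  have hA : A₁ ∈ fx (Res M) P := mul_mem (mul_mem hj.mem (hsm s).1) hj'.mem
  have hB : B₁ ∈ fx (Res M) P := mul_mem (mul_mem hj'.mem (hsm s⁻¹).1) hj.mem
  have hjA : j * A₁ = A₁ := by simp only [hA₁, ← mul_assoc, hj.idem]
  have hAj : A₁ * j' = A₁ := by simp only [hA₁, mul_assoc, hj'.idem]
  have hjB : j' * B₁ = B₁ := by simp only [hB₁, ← mul_assoc, hj'.idem]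
  have hBj : B₁ * j = B₁ := by simp only [hB₁, mul_assoc, hj.idem]
  rcases hj.corner (x := A₁ * B₁) (mul_mem hA hB) (by rw [← mul_assoc, hjA])
    (by rw [mul_assoc, hBj]) with ⟨n, hn⟩ | ⟨y, hy, hxy, -⟩
  · exfalso
    apply hs
    have hbA : br P A₁ = br P j * single s 1 * br P j' := by
      rw [hA₁, br_mul hP (mem_fx.mp (mul_mem hj.mem (hsm s).1)) (mem_fx.mp hj'.mem),
        br_mul hP (mem_fx.mp hj.mem) (mem_fx.mp (hsm s).1), (hsm s).2]
    have hbB : br P B₁ = br P j' * single s⁻¹ 1 * br P j := by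
      rw [hB₁, br_mul hP (mem_fx.mp (mul_mem hj'.mem (hsm s⁻¹).1)) (mem_fx.mp hj.mem),
        br_mul hP (mem_fx.mp hj'.mem) (mem_fx.mp (hsm s⁻¹).1), (hsm s⁻¹).2]
    have hnil : F (br P A₁ * br P B₁) = 0 := by
      refine hFn _ ⟨n + 1, ext_injective C[P] ?_⟩
      rw [← br_mul hP (mem_fx.mp hA) (mem_fx.mp hB), map_pow, map_zero]
      show brx P (A₁ * B₁) ^ (n + 1) = 0
      rw [← brx_pow hP (mul_mem hA hB) n, hn, brx_zero]
    rw [hbA, hbB] at hnil
    calc F (br P j * cj s (br P j')) = F (br P j * cj s (br P j') * br P j) := by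
          rw [hFc (br P j * cj s (br P j')) (br P j), ← mul_assoc, hjj]
      _ = F (br P j * single s 1 * br P j' * (br P j' * single s⁻¹ 1 * br P j)) := by
          congr 1
          rw [cj_eq_mul]
          simp only [mul_assoc]
          rw [← mul_assoc (br P j') (br P j'), hjj']
      _ = 0 := hnil
  · refine ⟨A₁, hA, B₁ * y, mul_mem hB hy, by rw [← mul_assoc, hxy], ?_⟩
    have hab' : A₁ * (B₁ * y) = j := by rw [← mul_assoc, hxy]
    rcases hj'.only (B₁ * y * A₁) (mul_mem (mul_mem hB hy) hA) (by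
        rw [mul_assoc (B₁ * y) A₁, ← mul_assoc A₁, hab', hjA])
      (by simp only [← mul_assoc, hjB]) (by simp only [mul_assoc, hAj]) with h0 | h0
    · exfalso
      apply hj.ne
      calc j = j * j := hj.idem.symm
        _ = A₁ * (B₁ * y * A₁) * (B₁ * y) := by
            conv_lhs => rw [← hab']
            simp only [mul_assoc]
        _ = 0 := by rw [h0, mul_zero, zero_mul]
    · exact h0

end Cfsg.Agent.Lib.FreeAbelian.Unique
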